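import Groth.Agent.H17.GabRos.Invertible
import Groth.Agent.H17.PrinOmega
import Groth.Agent.H29RR.Invert
import Groth.Agent.H11Ample.Twist
import Mathlib

/-!
# The reconstruction theorem of Gabriel and Rosenberg
-/

set_option autoImplicit false
set_option linter.style.haveILetI false
set_option maxHeartbeats 1000000

universe u

open CategoryTheory CategoryTheory.Limits AlgebraicGeometry Opposite TopologicalSpace
open QCohCat

noncomputable section

namespace Groth.Agent.H17.GabRos

open QCohAffine (OX)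
open PushColim (stalkAb)

variable {X Y : Scheme.{u}} [CompactSpace X] [QuasiSeparatedSpace X] [CompactSpace Y] [QuasiSeparatedSpace Y]
  {e : QCoh X ≌ QCoh Y} {h : Y ≃ₜ X} (hm : Match e h) (ε : e.functor.obj (OX X) ≅ OX Y)

/-- Compact opens. -/
abbrev CO (X : Scheme.{u}) : Type u := {U : X.Opens // IsCompact (U : Set X)}

omit [CompactSpace X] [QuasiSeparatedSpace X] in
theorem isBasis_CO : Opens.IsBasis (Set.range (Subtype.val : CO X → X.Opens)) := by
  rw [Opens.isBasis_iff_nbhd]
  intro U x hx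
  obtain ⟨A, hA, hxA, hAU⟩ := exists_isAffineOpen_mem_and_subset (X := X) hx
  exact ⟨A, ⟨⟨A, hA.isCompact⟩, rfl⟩, hxA, hAU⟩

/-- `ρ` as a ring homomorphism. -/
def ρHom {U : X.Opens} (hU : IsCompact (U : Set X)) : Γ(X, U) →+* Γ(Y, op' h U) where
  toFun := ρ hm hU ε
  map_one' := ρ_one hm hU ε
  map_mul' := ρ_mul hm hU ε
  map_zero' := by
    have := ρ_add hm hU ε 0 0
    rw [add_zero] at this
    exact left_eq_add.1 this
  map_add' := ρ_add hm hU ε

/-- The underlying continuous map. -/
def baseMap (h : Y ≃ₜ X) : Y.toPresheafedSpace.carrier ⟶ X.toPresheafedSpace.carrier :=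
  TopCat.ofHom ⟨h, h.continuous⟩

/-- The comparison on compact opens. -/
def compData : (inducedFunctor (Subtype.val : CO X → X.Opens)).op ⋙ X.presheaf ⟶
    (inducedFunctor (Subtype.val : CO X → X.Opens)).op ⋙
      ((TopCat.Sheaf.pushforward CommRingCat.{u} (baseMap h)).obj Y.sheaf).1 where
  app U := CommRingCat.ofHom (ρHom hm ε U.unop.2)
  naturality U V i := by
    refine CommRingCat.hom_ext (RingHom.ext fun a => ?_)
    exact ρ_res hm U.unop.2 ε V.unop.2 ((inducedFunctor _).map i.unop).le a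

/-- The comparison of structure sheaves. -/
def comp : X.presheaf ⟶ ((TopCat.Sheaf.pushforward CommRingCat.{u} (baseMap h)).obj Y.sheaf).1 :=
  TopCat.Sheaf.restrictHomEquivHom X.presheaf ((TopCat.Sheaf.pushforward CommRingCat.{u} (baseMap h)).obj Y.sheaf)
    isBasis_CO (compData hm ε)

theorem comp_app (U : X.Opens) (hU : IsCompact (U : Set X)) :
    (comp hm ε).app (op U) = CommRingCat.ofHom (ρHom hm ε hU) :=
  TopCat.Sheaf.extend_hom_app _ _ isBasis_CO (compData hm ε) (⟨U, hU⟩ : CO X)

theorem isIso_comp : IsIso (comp hm ε) := by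
  let φ : X.sheaf ⟶ (TopCat.Sheaf.pushforward CommRingCat.{u} (baseMap h)).obj Y.sheaf := ⟨comp hm ε⟩
  haveI : IsIso φ := TopCat.Sheaf.isIso_iff_isIso_basis isBasis_CO fun U => by
    show IsIso ((comp hm ε).app (op U.1))
    rw [comp_app hm ε U.1 U.2]
    exact (ConcreteCategory.isIso_iff_bijective _).2 (bijective_ρ hm U.2 ε)
  exact inferInstanceAs (IsIso ((TopCat.Sheaf.forget CommRingCat.{u} _).map φ))

/-- The morphism of presheafed spaces. -/
def psHom : Y.toPresheafedSpace ⟶ X.toPresheafedSpace where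
  base := baseMap h
  c := comp hm ε

theorem isIso_psHom : IsIso (psHom hm ε) := by
  haveI : IsIso (psHom hm ε).base := (TopCat.isoOfHomeo h).isIso_hom
  haveI : IsIso (psHom hm ε).c := isIso_comp hm ε
  exact PresheafedSpace.isIso_of_components _

/-- The isomorphism of schemes. -/
def schemeIso : Y ≅ X :=
  Scheme.fullyFaithfulForgetToLocallyRingedSpace.preimageIso
    (LocallyRingedSpace.isoOfSheafedSpaceIso (SheafedSpace.isoMk (@asIso _ _ _ _ (psHom hm ε) (isIso_psHom hm ε))))

theorem schemeIso_preimage (U : X.Opens) : (schemeIso hm ε).hom ⁻¹ᵁ U = op' h U := rfl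

theorem schemeIso_app (U : X.Opens) (hU : IsCompact (U : Set X)) (a : Γ(X, U)) :
    (schemeIso hm ε).hom.app U a = ρ hm hU ε a :=
  ConcreteCategory.congr_hom (comp_app hm ε U hU) a

/-- `θ` is semilinear, as a linear map into the direct image. -/
def θLin (M : QCoh X) {U : X.Opens} (hU : IsCompact (U : Set X)) :
    Γ(M.obj, U) →ₗ[Γ(X, U)] Γ((Scheme.Modules.pushforward (schemeIso hm ε).hom).obj (e.functor.obj M).obj, U) where
  toFun s := θ hm hU ε M s
  map_add' s t := θ_add hm hU ε M s t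
  map_smul' a s := by
    refine (θ_smul hm hU ε M a s).trans ?_
    rw [← schemeIso_app hm ε U hU a]
    rfl

theorem exists_tau (M : QCoh X) :
    ∃ τ : M.obj ⟶ (Scheme.Modules.pushforward (schemeIso hm ε).hom).obj (e.functor.obj M).obj,
      ∀ (U : X.Opens) (hU : IsCompact (U : Set X)) (s : Γ(M.obj, U)), τ.app U s = θ hm hU ε M s :=
  PrinOmega.exists_hom_of_basis _ _ (fun U => IsCompact (U : Set X))
    (fun W x hx => by
      obtain ⟨A, hA, hxA, hAW⟩ := exists_isAffineOpen_mem_and_subset (X := X) hx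
      exact ⟨A, hA.isCompact, hxA, hAW⟩)
    (fun U hU => θLin hm ε M hU) fun U U' hU hU' hle s => θ_res hm hU ε hU' hle M s

omit [CompactSpace X] [QuasiSeparatedSpace X] in
theorem hom_ext_compact {A B : X.Modules} {f g : A ⟶ B}
    (h : ∀ (U : X.Opens), IsCompact (U : Set X) → ∀ s, f.app U s = g.app U s) : f = g := by
  refine Scheme.Modules.hom_ext _ _ fun W => ?_
  ext s
  refine TopCat.Presheaf.section_ext (⟨_, B.isSheaf⟩ : TopCat.Sheaf Ab X) W _ _ fun x hx => ?_
  obtain ⟨U, hU, hxU, hUW⟩ := exists_isAffineOpen_mem_and_subset (X := X) hx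
  show B.presheaf.germ W x hx (f.app W s) = B.presheaf.germ W x hx (g.app W s)
  rw [← TopCat.Presheaf.germ_res_apply B.presheaf (homOfLE hUW) x hxU (f.app W s),
    ← TopCat.Presheaf.germ_res_apply B.presheaf (homOfLE hUW) x hxU (g.app W s)]
  exact congrArg _ ((app_rs f hUW s).symm.trans ((h U hU.isCompact _).trans (app_rs g hUW s)))

/-- The comparison `M ⟶ f_*(e M)`. -/
def tau (M : QCoh X) : M.obj ⟶ (Scheme.Modules.pushforward (schemeIso hm ε).hom).obj (e.functor.obj M).obj :=
  (exists_tau hm ε M).choose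

theorem tau_app (M : QCoh X) {U : X.Opens} (hU : IsCompact (U : Set X)) (s : Γ(M.obj, U)) :
    (tau hm ε M).app U s = θ hm hU ε M s :=
  (exists_tau hm ε M).choose_spec U hU s

theorem isIso_tau (M : QCoh X) : IsIso (tau hm ε M) := by
  haveI : IsIso (H16Derived.KFlat.Stalk.toAb.map (tau hm ε M)) :=
    TopCat.Sheaf.isIso_iff_isIso_basis isBasis_CO fun U => (ConcreteCategory.isIso_iff_bijective _).2 (by
      have hb := bijective_θ hm U.2 ε M
      rw [show θ hm U.2 ε M = (tau hm ε M).app U.1 from funext fun s => (tau_app hm ε M U.2 s).symm] at hb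
      exact hb)
  exact isIso_of_reflects_iso _ H16Derived.KFlat.Stalk.toAb

/-- `M ≅ f_*(e M)` naturally. -/
def tauIso : (isQCoh X).ι ≅
    e.functor ⋙ (isQCoh Y).ι ⋙ Scheme.Modules.pushforward (schemeIso hm ε).hom :=
  haveI := isIso_tau hm ε
  NatIso.ofComponents (fun M => asIso (tau hm ε M)) fun {M N} f => by
    refine hom_ext_compact fun U hU s => ?_
    show (tau hm ε N).app U (f.hom.app U s) =
      (e.functor.map f).hom.app (op' h U) ((tau hm ε M).app U s)
    rw [tau_app hm ε N hU, tau_app hm ε M hU]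
    exact θ_natural hm hU ε f s

include hm ε in
/-- Normalised reconstruction. -/
theorem exists_iso_pullback :
    ∃ f : Y ≅ X, Nonempty (e.functor ⋙ (isQCoh Y).ι ≅ (isQCoh X).ι ⋙ Scheme.Modules.pullback f.hom) := by
  let f := schemeIso hm ε
  refine ⟨f, ?_⟩
  haveI : (Scheme.Modules.pushforward f.hom).IsEquivalence :=
    (CategoryTheory.Equivalence.mk (Scheme.Modules.pushforward f.inv) (Scheme.Modules.pushforward f.hom)
      ((Scheme.Modules.pushforwardId X).symm ≪≫ Scheme.Modules.pushforwardCongr f.inv_hom_id.symm ≪≫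
        (Scheme.Modules.pushforwardComp f.inv f.hom).symm)
      (Scheme.Modules.pushforwardComp f.hom f.inv ≪≫ Scheme.Modules.pushforwardCongr f.hom_inv_id ≪≫
        Scheme.Modules.pushforwardId Y)).isEquivalence_inverse
  let c := asIso (Scheme.Modules.pullbackPushforwardAdjunction f.hom).counit
  exact ⟨(Functor.rightUnitor _).symm ≪≫ Functor.isoWhiskerLeft (e.functor ⋙ (isQCoh Y).ι) c.symm ≪≫
    (Functor.associator _ _ _).symm ≪≫ Functor.isoWhiskerRight (Functor.associator _ _ _) _ ≪≫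
    Functor.isoWhiskerRight (tauIso hm ε).symm _⟩

section Twist

variable (M N : Y.Modules) (hM : PicF.IsInvertible M) (hN : PicF.IsInvertible N)

/-- Twisting quasi-coherent modules. -/
def twistQ : QCoh Y ⥤ QCoh Y :=
  ObjectProperty.lift (isQCoh Y) ((isQCoh Y).ι ⋙ H29RR.twist M)
    fun A => H11Ample.isQCoh_tensor A.property hM

/-- Twisting back. -/
def twistQInv (i : CohB1.tensorMod M N ≅ Coh.structureModule Y) :
    twistQ M hM ⋙ twistQ N hN ≅ 𝟭 (QCoh Y) :=
  NatIso.ofComponents (fun A => (isQCoh Y).fullyFaithfulι.preimageIso ((H29RR.twistInv i).app A.obj))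
    fun {A B} f => ObjectProperty.hom_ext _ ((H29RR.twistInv i).hom.naturality f.hom)

end Twist

/-- **Gabriel–Rosenberg**. -/
theorem gabriel_rosenberg (e : QCoh X ≌ QCoh Y) :
    ∃ (f : Y ≅ X) (L : Y.Modules), PicF.IsInvertible L ∧
      Nonempty (e.functor ⋙ (isQCoh Y).ι ≅
        (isQCoh X).ι ⋙ Scheme.Modules.pullback f.hom ⋙ DCoh.tensorRightMod L) := by
  obtain ⟨h, hm⟩ := exists_homeo e
  let L := (e.functor.obj (OX X)).obj
  have hL : PicF.IsInvertible L := isInvertible_map_OX (h := h) hm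
  obtain ⟨N, hN, ⟨i⟩⟩ := H29RR.exists_inverse_comm hL
  let i' : CohB1.tensorMod N L ≅ Coh.structureModule Y := H10Coh.Tw.commIso N L ≪≫ i
  let T : QCoh Y ≌ QCoh Y := CategoryTheory.Equivalence.mk (twistQ N hN) (twistQ L hL)
    (twistQInv N L hN hL i').symm (twistQInv L N hL hN i)
  let e' := e.trans T
  let ε : e'.functor.obj (OX X) ≅ OX Y := (isQCoh Y).fullyFaithfulι.preimageIso i
  obtain ⟨h', hm'⟩ := exists_homeo e'
  obtain ⟨f, ⟨η⟩⟩ := exists_iso_pullback (h := h') hm' ε
  refine ⟨f, L, hL, ⟨?_⟩⟩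
  exact Functor.isoWhiskerRight ((Functor.rightUnitor e.functor).symm ≪≫
      Functor.isoWhiskerLeft e.functor (twistQInv N L hN hL i').symm) (isQCoh Y).ι ≪≫
    NatIso.ofComponents (fun A => Iso.refl _) (fun f => (Category.comp_id _).trans (Category.id_comp _).symm) ≪≫
    Functor.isoWhiskerRight η (DCoh.tensorRightMod L) ≪≫ Functor.associator _ _ _

end Groth.Agent.H17.GabRos
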