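import Groth.Agent.H17.GabRos.Serre
import Groth.Agent.H8Blow.SeparatePrelim
import Groth.Agent.H7Lim.IdealExtension
import Groth.Agent.H26Ext.Quot
import Groth.Agent.S8876
import Groth.Agent.S8873
import Mathlib

/-!
# Quasi-compact opens are the complements of supports of finitely presented modules
-/

set_option autoImplicit false
set_option linter.style.haveILetI false
set_option maxHeartbeats 1000000

universe u

open CategoryTheory CategoryTheory.Limits AlgebraicGeometry Opposite TopologicalSpace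

noncomputable section

namespace Groth.Agent.H17.GabRos

variable {X : Scheme.{u}}

theorem isCompact_compl_support [CompactSpace X] {F : X.Modules} (hF : CohB1.IsFP F) :
    IsCompact (CohB1.support F)ᶜ := by
  have h := H8Blow.isCompact_compl_support (S8873.result X F hF 0)
  rwa [S8876.result X F (H29Fitt.isQCoh_of_isFP F hF) (H29Fitt.isFT_of_isFP F hF)] at h

theorem support_quotMod (J : X.IdealSheafData) :
    CohB1.support (ClSub.quotMod J) = (J.support : Set X) := by
  ext x
  obtain ⟨A, hA, hxA, -⟩ := exists_isAffineOpen_mem_and_subset (X := X) (x := x) (U := ⊤) trivial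
  show ¬ Subsingleton ((ClSub.quotMod J).presheaf.stalk x) ↔ _
  rw [not_subsingleton_iff_nontrivial,
    H22Alg.CohSupport.nontrivial_stalk_iff _ (H26Ext.isQCoh_quotMod J) hA ⟨x, hxA⟩,
    ← LinearEquiv.support_eq (H26Ext.quotEquiv J ⟨A, hA⟩), Module.support_eq_zeroLocus,
    Ideal.annihilator_quotient, PrimeSpectrum.mem_zeroLocus, SetLike.mem_coe,
    Scheme.IdealSheafData.mem_support_iff_of_mem (U := ⟨A, hA⟩) hxA, Scheme.mem_zeroLocus_iff]
  refine ⟨fun h a ha hmem => ?_, fun h a ha => ?_⟩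
  · exact (H29Blow.mem_primeIdealOf_iff hA ⟨x, hxA⟩ a).1 (h ha) ((X.mem_basicOpen a x hxA).1 hmem)
  · exact (H29Blow.mem_primeIdealOf_iff hA ⟨x, hxA⟩ a).2 fun hu => h a ha ((X.mem_basicOpen a x hxA).2 hu)

theorem ideal_eq_top (I : X.IdealSheafData) (A : X.affineOpens) (h : ∀ x ∈ A.1, x ∉ I.support) :
    I.ideal A = ⊤ := by
  rw [← PrimeSpectrum.zeroLocus_empty_iff_eq_top, Set.eq_empty_iff_forall_notMem]
  intro p hp
  have : A.2.fromSpec p ∈ X.zeroLocus (U := A.1) (I.ideal A) ∩ (A.1 : Set X) := by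
    rw [← A.2.fromSpec_image_zeroLocus]
    exact ⟨p, hp, rfl⟩
  exact h _ this.2 ((Scheme.IdealSheafData.mem_support_iff_of_mem this.2).2 this.1)

theorem fg_sup {J K : X.IdealSheafData} (hJ : ∀ A : X.affineOpens, (J.ideal A).FG)
    (hK : ∀ A : X.affineOpens, (K.ideal A).FG) (A : X.affineOpens) : ((J ⊔ K).ideal A).FG := by
  rw [Scheme.IdealSheafData.ideal_sup]
  exact Submodule.FG.sup (hJ A) (hK A)

theorem exists_isFP_support [CompactSpace X] [QuasiSeparatedSpace X] (U : X.Opens) (hU : IsCompact (U : Set X)) :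
    ∃ N : X.Modules, Coh.IsQCoh N ∧ CohB1.IsFP N ∧ CohB1.support N = (U : Set X)ᶜ := by
  classical
  let I := Scheme.IdealSheafData.vanishingIdeal (⟨(U : Set X)ᶜ, U.2.isClosed_compl⟩ : Closeds X)
  have hI : (I.support : Set X) = (U : Set X)ᶜ := by
    first | rfl | simp [I]
  obtain ⟨S, hS, hUS⟩ := isCompact_iff_finite_and_eq_biUnion_affineOpens.1 hU
  suffices ∀ T : Finset X.affineOpens, (∀ A ∈ T, A.1 ≤ U) → ∃ J ≤ I, (∀ A : X.affineOpens, (J.ideal A).FG) ∧
      ∀ A ∈ T, ∀ x ∈ A.1, x ∉ J.support by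
    obtain ⟨J, hJI, hfg, hJ⟩ := this hS.toFinset fun A hA => by
      rw [hUS]
      exact le_iSup₂ (f := fun (A : X.affineOpens) (_ : A ∈ S) => A.1) A (hS.mem_toFinset.1 hA)
    refine ⟨ClSub.quotMod J, H26Ext.isQCoh_quotMod J, H26Ext.isFP_quotMod J fun x => ?_, ?_⟩
    · obtain ⟨A, hA, hxA, -⟩ := exists_isAffineOpen_mem_and_subset (X := X) (x := x) (U := ⊤) trivial
      exact ⟨⟨A, hA⟩, hxA, hfg _⟩
    · rw [support_quotMod]
      refine Set.Subset.antisymm (fun x hx hxU => ?_) ?_
      · obtain ⟨A, hA, hxA⟩ : ∃ A ∈ S, x ∈ A.1 := by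
          have h := hUS.le hxU
          simpa [Opens.mem_iSup] using h
        exact hJ A (hS.mem_toFinset.2 hA) x hxA hx
      · rw [← hI]
        exact Scheme.IdealSheafData.support_antitone hJI
  intro T
  induction T using Finset.induction with
  | empty =>
    exact fun _ => ⟨⊥, bot_le, fun A => by rw [Scheme.IdealSheafData.ideal_bot]; exact Submodule.fg_bot,
      by simp⟩
  | @insert A T _ ih =>
    intro hT
    obtain ⟨J, hJI, hfg, hJ⟩ := ih fun B hB => hT B (Finset.mem_insert_of_mem hB)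
    have htop : I.ideal A = ⊤ := ideal_eq_top I A fun x hx hxs =>
      (hI.le hxs) (hT A (Finset.mem_insert_self _ _) hx)
    obtain ⟨K, hKI, hKfg, h1⟩ := H7Lim.exists_finiteType_le I A {1}
      (by rw [htop]; exact fun _ _ => trivial)
    refine ⟨J ⊔ K, sup_le hJI hKI, fg_sup hfg hKfg, fun B hB x hx hxs => ?_⟩
    rw [Scheme.IdealSheafData.support_sup] at hxs
    rcases Finset.mem_insert.1 hB with rfl | hB
    · have : K.ideal B = ⊤ := (Ideal.eq_top_iff_one _).2 (h1 (Finset.mem_singleton_self 1))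
      have h2 := (Scheme.IdealSheafData.mem_support_iff_of_mem hx).1 hxs.2
      rw [Scheme.mem_zeroLocus_iff] at h2
      exact h2 1 (this ▸ trivial) (by rw [Scheme.basicOpen_of_isUnit X isUnit_one]; exact hx)
    · exact hJ B hB x hx hxs.1

end Groth.Agent.H17.GabRos
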