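import Groth.Agent.H29Fitt.Rank
import Mathlib

/-!
# Modules supported in the support of a finitely presented module are built from it
-/

set_option autoImplicit false
set_option linter.style.haveILetI false

universe u

open CategoryTheory CategoryTheory.Limits

namespace Groth.Agent.H17.GabRos

variable {A : Type u} [CommRing A]

/-- `Ann(G)^n ≤ Fit_0(G)`. -/
theorem annihilator_pow_le (G : Type u) [AddCommGroup G] [Module A G] [Module.Finite A G] :
    ∃ n, Module.annihilator A G ^ n ≤ Fitt.ideal A G 0 := by
  classical
  obtain ⟨n, x, hx⟩ := Module.Finite.exists_fin (R := A) (M := G)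
  refine ⟨n, ?_⟩
  rw [Submodule.pow_eq_span_pow_set, H29Fitt.ideal_eq x hx, Nat.sub_zero]
  refine Submodule.span_le.2 fun c hc => ?_
  obtain ⟨f, rfl⟩ := Set.mem_pow.1 hc
  have := H29Fitt.det_mem_J (x := x) (z := fun b : Fin n => Pi.single b (f b : A)) (fun b => by
    simp [Pi.single_apply, ite_smul, Module.mem_annihilator.mp (f b).2]) id
  have h : (Matrix.of fun a b : Fin n => (Pi.single b (f b : A) : Fin n → A) (id a)) =
      Matrix.diagonal fun b => (f b : A) := by
    ext a b
    by_cases hab : a = b <;> simp [Matrix.diagonal, hab]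
  rw [h, Matrix.det_diagonal] at this
  rw [List.prod_ofFn]
  exact this

/-- An ideal of finite type inside the annihilator, containing a power of it. -/
theorem exists_fg_ideal (G : Type u) [AddCommGroup G] [Module A G] [Module.FinitePresentation A G] :
    ∃ (J : Ideal A) (n : ℕ), J.FG ∧ J ≤ Module.annihilator A G ∧ Module.annihilator A G ^ n ≤ J ∧
      PrimeSpectrum.zeroLocus (J : Set A) = Module.support A G := by
  obtain ⟨n, hn⟩ := annihilator_pow_le (A := A) G
  exact ⟨_, n, H29Fitt.ideal_fg 0, H29Fitt.ideal_zero_le_annihilator, hn, H29Fitt.zeroLocus_ideal_zero⟩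

section

variable (G : ModuleCat.{u} A) (P : ModuleCat.{u} A → Prop)
  (hser : ∀ (K M Q : ModuleCat.{u} A) (f : K →ₗ[A] M) (g : M →ₗ[A] Q), Function.Injective f →
    Function.Exact f g → Function.Surjective g → Module.support A M ⊆ Module.support A G →
      (P M ↔ P K ∧ P Q))
  (hsum : ∀ (ι : Type u) (M : ι → ModuleCat.{u} A), (∀ i, Module.support A (M i) ⊆ Module.support A G) →
    (∀ i, P (M i)) → P (ModuleCat.of A (Π₀ i, M i)))
  (hG : P G)

include hser hsum hG in
theorem prop_of_support_subset [Module.FinitePresentation A G] (N : ModuleCat.{u} A)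
    (hN : Module.support A N ⊆ Module.support A G) : P N := by
  classical
  obtain ⟨J, n, hJfg, hJann, hann, hJ⟩ := exists_fg_ideal (A := A) G
  have hquot : ∀ (M : ModuleCat.{u} A) (Q : ModuleCat.{u} A) (g : M →ₗ[A] Q), Function.Surjective g →
      Module.support A M ⊆ Module.support A G → P M → P Q := fun M Q g hg hM hP =>
    ((hser (ModuleCat.of A g.ker) M Q g.ker.subtype g (Submodule.injective_subtype _)
      (LinearMap.exact_subtype_ker_map g) hg hM).1 hP).2
  have hsub : ∀ (K : ModuleCat.{u} A) (M : ModuleCat.{u} A) (f : K →ₗ[A] M), Function.Injective f →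
      Module.support A M ⊆ Module.support A G → P M → P K := fun K M f hf hM hP =>
    ((hser K M (ModuleCat.of A (M ⧸ LinearMap.range f)) f (LinearMap.range f).mkQ hf
      (LinearMap.exact_map_mkQ_range f) (Submodule.mkQ_surjective _) hM).1 hP).1
  -- `A/Ann G`
  set I := Module.annihilator A G
  have hsI : Module.support A (A ⧸ I) ⊆ Module.support A G := by
    rw [Module.support_eq_zeroLocus, Module.support_eq_zeroLocus, Ideal.annihilator_quotient]
  have hAI : P (ModuleCat.of A (A ⧸ I)) := by
    obtain ⟨m, x, hx⟩ := Module.Finite.exists_fin (R := A) (M := G)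
    let D := Π₀ _ : ULift.{u} (Fin m), G
    have hD : Module.support A D ⊆ Module.support A G := by
      intro p hp
      rw [Module.mem_support_iff'] at hp ⊢
      obtain ⟨d, hd⟩ := hp
      by_contra h
      push Not at h
      choose r hr hr' using fun i => h (d i)
      exact hd (∏ i, r i) (fun hmem => by
        obtain ⟨i, -, hi⟩ := Ideal.IsPrime.prod_mem_iff.1 hmem
        exact hr i hi) (DFinsupp.ext fun i => by
        rw [DFinsupp.smul_apply, ← Finset.prod_erase_mul _ _ (Finset.mem_univ i), mul_smul, hr',
          smul_zero]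
        rfl)
    let φ : A →ₗ[A] D := LinearMap.toSpanSingleton A D (DFinsupp.equivFunOnFintype.symm fun i => x i.down)
    have hφ : ∀ a, φ a = 0 ↔ a ∈ I := fun a => by
      rw [Module.mem_annihilator]
      constructor
      · intro h g
        have hg : g ∈ Submodule.span A (Set.range x) := hx ▸ Submodule.mem_top
        induction hg using Submodule.span_induction with
        | mem g hg =>
          obtain ⟨i, rfl⟩ := hg
          exact congr($(h) ⟨i⟩)
        | zero => exact smul_zero _
        | add a b _ _ ha hb => rw [smul_add, ha, hb, add_zero]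
        | smul r g _ hg => rw [smul_comm, hg, smul_zero]
      · exact fun h => DFinsupp.ext fun i => h _
    refine hsub _ (ModuleCat.of A D) (Submodule.liftQ I φ fun a ha => (hφ a).2 ha) ?_ hD
      (hsum _ (fun _ => G) (fun _ => subset_rfl) fun _ => hG)
    rw [← LinearMap.ker_eq_bot, Submodule.ker_liftQ_eq_bot' _ _ (Submodule.ext fun a => (hφ a).symm)]
  -- killed by `Ann G`
  have hkill : ∀ M : ModuleCat.{u} A, (∀ a ∈ I, ∀ m : M, a • m = 0) → P M := by
    intro M hM
    let ψ : (Π₀ _ : M, A ⧸ I) →ₗ[A] M := DFinsupp.lsum A fun m =>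
      Submodule.liftQ I (LinearMap.toSpanSingleton A M m) fun a ha => hM a ha m
    refine hquot (ModuleCat.of A (Π₀ _ : M, A ⧸ I)) M ψ ?_ ?_
      (hsum M (fun _ => ModuleCat.of A (A ⧸ I)) (fun _ => hsI) fun _ => hAI)
    · intro m
      refine ⟨DFinsupp.single m (Submodule.Quotient.mk 1), ?_⟩
      simp only [ψ, DFinsupp.lsum_single]
      exact one_smul A m
    · intro p hp
      rw [Module.mem_support_iff'] at hp
      obtain ⟨d, hd⟩ := hp
      rw [Module.support_eq_zeroLocus, PrimeSpectrum.mem_zeroLocus]
      intro a ha
      by_contra h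
      refine hd a h (DFinsupp.ext fun i => ?_)
      rw [DFinsupp.smul_apply]
      induction d i using Submodule.Quotient.induction_on with
      | H b =>
        rw [← Submodule.Quotient.mk_smul]
        exact (Submodule.Quotient.mk_eq_zero _).2 (I.mul_mem_right b ha)
  have hss : ∀ (M : ModuleCat.{u} A), ∀ k : ℕ, (∀ a ∈ I ^ k, ∀ m : M, a • m = 0) →
      Module.support A M ⊆ Module.support A G → P M := by
    intro M k
    induction k generalizing M with
    | zero =>
      intro hM _
      exact hkill M fun a _ m => hM a (by rw [pow_zero, Ideal.one_eq_top]; trivial) m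
    | succ k ih =>
      intro hM hs
      let M' : Submodule A M := I • ⊤
      refine (hser (ModuleCat.of A M') M (ModuleCat.of A (M ⧸ M')) M'.subtype M'.mkQ
        (Submodule.injective_subtype _) ((LinearMap.exact_subtype_mkQ M')) (Submodule.mkQ_surjective _) hs).2
        ⟨ih (ModuleCat.of A M') ?_ ((Module.support_subset_of_injective M'.subtype
          (Submodule.injective_subtype _)).trans hs), hkill (ModuleCat.of A (M ⧸ M')) ?_⟩
      · rintro a ha ⟨m, hm⟩
        refine Subtype.ext ?_
        show a • m = 0
        refine Submodule.smul_induction_on hm (fun r hr m _ => ?_) fun x y hx hy => ?_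
        · rw [smul_smul]
          exact hM _ (by rw [pow_succ]; exact Ideal.mul_mem_mul ha hr) m
        · rw [smul_add, hx, hy, add_zero]
      · intro a ha q
        induction q using Submodule.Quotient.induction_on with
        | H m => exact (Submodule.Quotient.mk_eq_zero _).2 (Submodule.smul_mem_smul ha trivial)
  -- cyclic pieces
  have hcyc : ∀ m : N, P (ModuleCat.of A (Submodule.span A {m})) := by
    intro m
    have hle := (Module.support_subset_of_injective (Submodule.span A {m}).subtype
      (Submodule.injective_subtype _)).trans hN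
    rw [Module.support_eq_zeroLocus, ← hJ, PrimeSpectrum.zeroLocus_subset_zeroLocus_iff] at hle
    obtain ⟨k, hk⟩ := Ideal.exists_pow_le_of_le_radical_of_fg hle hJfg
    refine hss _ (n * k) (fun a ha z => ?_) ((Module.support_subset_of_injective _
      (Submodule.injective_subtype _)).trans hN)
    rw [pow_mul] at ha
    exact Module.mem_annihilator.1 (hk (Ideal.pow_right_mono hann k ha)) z
  let ψ : (Π₀ m : N, Submodule.span A {m}) →ₗ[A] N := DFinsupp.lsum A fun m => (Submodule.span A {m}).subtype
  refine hquot (ModuleCat.of A (Π₀ m : N, Submodule.span A {m})) N ψ ?_ ?_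
    (hsum N (fun m => ModuleCat.of A (Submodule.span A {m})) (fun m =>
      (Module.support_subset_of_injective _ (Submodule.injective_subtype _)).trans hN) hcyc)
  · intro m
    refine ⟨DFinsupp.single m ⟨m, Submodule.mem_span_singleton_self m⟩, ?_⟩
    simp [ψ]
  · intro p hp
    by_contra hp'
    have hpN : p ∉ Module.support A N := fun h => hp' (hN h)
    rw [Module.notMem_support_iff'] at hpN
    rw [Module.mem_support_iff'] at hp
    obtain ⟨d, hd⟩ := hp
    choose r hr hr' using fun i : N => hpN ((d i : Submodule.span A {i}) : N)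
    refine hd (∏ i ∈ d.support, r i) (fun hmem => ?_) (DFinsupp.ext fun i => ?_)
    · obtain ⟨i, -, hi⟩ := Ideal.IsPrime.prod_mem_iff.1 hmem
      exact hr i hi
    · rw [DFinsupp.smul_apply]
      by_cases hi : i ∈ d.support
      · rw [← Finset.prod_erase_mul _ _ hi, mul_smul]
        have h0 : r i • d i = 0 := Subtype.ext (hr' i)
        rw [h0, smul_zero]
        rfl
      · rw [DFinsupp.notMem_support_iff.1 hi, smul_zero]
        rfl

end

end Groth.Agent.H17.GabRos
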