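import Groth.Agent.H17.GabRos.Complement
import Groth.Agent.H17.QCohCat.Groth
import Groth.Agent.H17.FPExt.Compact
import Mathlib

/-!
# The support order on finitely presented objects is categorical
-/

set_option autoImplicit false
set_option linter.style.haveILetI false
set_option maxHeartbeats 1000000

universe u

open CategoryTheory CategoryTheory.Limits AlgebraicGeometry Opposite TopologicalSpace
open QCohCat

noncomputable section

attribute [local instance] Cardinal.fact_isRegular_aleph0

namespace Groth.Agent.H17.GabRos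

variable {X Y : Scheme.{u}}

instance additive_ι : (isQCoh X).ι.Additive := ⟨fun {_ _ _ _} => rfl⟩

instance preservesFiniteLimits_ι : PreservesFiniteLimits (isQCoh X).ι := by
  haveI := (isQCoh X).preservesKernels_ι
  exact Functor.preservesFiniteLimits_of_preservesKernels _

instance preservesFiniteColimits_ι : PreservesFiniteColimits (isQCoh X).ι :=
  PreservesColimitsOfSize.preservesFiniteColimits.{u, u} _

/-- `M` lies in every localizing Serre class containing `N`. -/
def InLoc (N M : QCoh X) : Prop :=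
  ∀ P : QCoh X → Prop, P N → (∀ S : ShortComplex (QCoh X), S.ShortExact → (P S.X₂ ↔ P S.X₁ ∧ P S.X₃)) →
    (∀ (ι : Type u) (F : ι → QCoh X), (∀ i, P (F i)) → P (∐ F)) → P M

theorem serre_of_iso {P : QCoh X → Prop}
    (hs : ∀ S : ShortComplex (QCoh X), S.ShortExact → (P S.X₂ ↔ P S.X₁ ∧ P S.X₃))
    {A B : QCoh X} (e : A ≅ B) (h : P A) : P B := by
  have hS : (ShortComplex.mk (kernel.ι e.hom) e.hom (kernel.condition e.hom)).ShortExact :=
    { exact := ShortComplex.exact_of_f_is_kernel _ (kernelIsKernel e.hom) }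
  exact ((hs _ hS).1 h).2

theorem InLoc.of_iso {N N' M M' : QCoh X} (h : InLoc N M) (e : N ≅ N') (e' : M ≅ M') : InLoc N' M' :=
  fun P hN hs hsum => serre_of_iso hs e' (h P (serre_of_iso hs e.symm hN) hs hsum)

theorem support_iso' {M N : QCoh X} (e : M ≅ N) : CohB1.support M.obj = CohB1.support N.obj :=
  support_iso ((isQCoh X).ι.mapIso e)

theorem InLoc.support_subset {N M : QCoh X} (h : InLoc N M) :
    CohB1.support M.obj ⊆ CohB1.support N.obj := by
  refine h (fun K => CohB1.support K.obj ⊆ CohB1.support N.obj) subset_rfl (fun S hS => ?_) fun ι F hF => ?_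
  · have := support_shortExact (hS.map_of_exact (isQCoh X).ι)
    show CohB1.support S.X₂.obj ⊆ _ ↔ _
    rw [show CohB1.support S.X₂.obj = CohB1.support S.X₁.obj ∪ CohB1.support S.X₃.obj from this,
      Set.union_subset_iff]
  · rw [show CohB1.support (∐ F).obj = CohB1.support (∐ fun i => (isQCoh X).ι.obj (F i)) from
      support_iso (PreservesCoproduct.iso (isQCoh X).ι F)]
    exact support_sigma_subset _ hF

theorem inLoc_of_support [CompactSpace X] [QuasiSeparatedSpace X] (N M : QCoh X) (hN : CohB1.IsFP N.obj)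
    (h : CohB1.support M.obj ⊆ CohB1.support N.obj) : InLoc N M := by
  intro P hPN hs hsum
  let P' : X.Modules → Prop := fun K => ∀ hK : isQCoh X K, P ⟨K, hK⟩
  have hiff : ∀ A : QCoh X, P' A.obj ↔ P A := fun A => ⟨fun h => h A.property, fun h _ => h⟩
  have hP' : IsLocClass P' := by
    refine ⟨fun S hS h₁ h₂ h₃ => ?_, fun ι K hK hPK hq => ?_⟩
    · let S' : ShortComplex (QCoh X) := ShortComplex.mk (X₁ := ⟨S.X₁, h₁⟩) (X₂ := ⟨S.X₂, h₂⟩) (X₃ := ⟨S.X₃, h₃⟩)
        (ObjectProperty.homMk S.f) (ObjectProperty.homMk S.g) (ObjectProperty.hom_ext _ S.zero)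
      have hS' : S'.ShortExact := (CategoryTheory.ShortExact.shortExact_map_iff (isQCoh X).ι (S := S')).1 hS
      have := hs S' hS'
      exact ⟨fun h => ⟨fun _ => (this.1 (h h₂)).1, fun _ => (this.1 (h h₂)).2⟩,
        fun h _ => this.2 ⟨h.1 h₁, h.2 h₃⟩⟩
    · let K' : ι → QCoh X := fun i => ⟨K i, hK i⟩
      exact serre_of_iso hs ((isQCoh X).fullyFaithfulι.preimageIso (X := ∐ K') (Y := ⟨∐ K, hq⟩)
        (PreservesCoproduct.iso (isQCoh X).ι K')) (hsum ι K' fun i => hPK i (hK i))
  exact (hiff M).1 (hP'.prop_of_support_subset N.obj N.property hN ((hiff N).2 hPN) M.obj M.property h)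

theorem inLoc_iff [CompactSpace X] [QuasiSeparatedSpace X] (N M : QCoh X) (hN : CohB1.IsFP N.obj) :
    InLoc N M ↔ CohB1.support M.obj ⊆ CohB1.support N.obj :=
  ⟨InLoc.support_subset, inLoc_of_support N M hN⟩

variable (e : QCoh X ≌ QCoh Y)

theorem inLoc_map {N M : QCoh X} (h : InLoc N M) : InLoc (e.functor.obj N) (e.functor.obj M) := by
  intro P hN hs hsum
  haveI : e.functor.Additive := Functor.additive_of_preserves_binary_products _
  refine h (fun K => P (e.functor.obj K)) hN (fun S hS => ?_) fun ι F hF => ?_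
  · exact hs (S.map e.functor) (hS.map_of_exact e.functor)
  · exact serre_of_iso hs (PreservesCoproduct.iso e.functor F).symm (hsum ι _ hF)

theorem inLoc_map_iff {N M : QCoh X} : InLoc (e.functor.obj N) (e.functor.obj M) ↔ InLoc N M :=
  ⟨fun h => (inLoc_map e.symm h).of_iso (e.unitIso.symm.app N) (e.unitIso.symm.app M), inLoc_map e⟩

theorem isFP_map [CompactSpace X] [QuasiSeparatedSpace X] [CompactSpace Y] [QuasiSeparatedSpace Y]
    {N : QCoh X} (h : CohB1.IsFP N.obj) : CohB1.IsFP (e.functor.obj N).obj := by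
  haveI : IsFinitelyPresentable.{u} N := (FPExt.isFinitelyPresentable_iff N).2 h
  haveI : IsFinitelyPresentable.{u} (e.functor.obj N) := isCardinalPresentable_of_equivalence _ _ e
  exact (FPExt.isFinitelyPresentable_iff _).1 inferInstance

variable [CompactSpace X] [QuasiSeparatedSpace X] [CompactSpace Y] [QuasiSeparatedSpace Y]

theorem support_map_subset_iff {N M : QCoh X} (hN : CohB1.IsFP N.obj) :
    CohB1.support (e.functor.obj M).obj ⊆ CohB1.support (e.functor.obj N).obj ↔
      CohB1.support M.obj ⊆ CohB1.support N.obj := by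
  rw [← inLoc_iff _ _ (isFP_map e hN), inLoc_map_iff, inLoc_iff _ _ hN]

end Groth.Agent.H17.GabRos
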