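import Groth.Agent.H17.GabRos.Local
import Groth.Agent.H11Tilde.Gen
import Mathlib

/-!
# The image of the structure module under an equivalence is invertible
-/

set_option autoImplicit false
set_option linter.style.haveILetI false
set_option maxHeartbeats 1000000

universe u

open CategoryTheory CategoryTheory.Limits AlgebraicGeometry Opposite TopologicalSpace
open QCohCat

noncomputable section

namespace Groth.Agent.H17.GabRos

open QCohAffine (OX)
open PushColim (stalkAb)

variable {X Y : Scheme.{u}} [CompactSpace X] [QuasiSeparatedSpace X] [CompactSpace Y] [QuasiSeparatedSpace Y]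
  {e : QCoh X ≌ QCoh Y} {h : Y ≃ₜ X} (hm : Match e h)

include hm in
theorem Match.symm : Match e.symm h.symm := by
  intro V hV N
  let U : X.Opens := op' h.symm V
  have hU : IsCompact (U : Set X) := isCompact_op' h.symm hV
  have he : (h ⁻¹' (U : Set X)) = (V : Set Y) :=
    Set.ext fun y => (iff_of_eq (congrArg (· ∈ (V : Set Y)) (h.symm_apply_apply y)))
  have := hm U hU (e.inverse.obj N)
  have h2 : CohB1.support (e.functor.obj (e.inverse.obj N)).obj = CohB1.support N.obj :=
    support_iso' (e.counitIso.app N)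
  rw [he, h2] at this
  exact this.symm

include hm in
theorem support_map_OX : CohB1.support (e.functor.obj (OX X)).obj = Set.univ := by
  refine Set.eq_univ_of_forall fun y hy => ?_
  have hq := (e.functor.obj (OX X)).property
  obtain ⟨O, hyO, hO⟩ : ∃ O : X.Opens, h y ∈ O ∧
      CohB1.support (e.functor.obj (OX X)).obj ⊆ (h ⁻¹' (O : Set X))ᶜ := by
    have hF : CohB1.IsFP (e.functor.obj (OX X)).obj := isFP_map e H06EGA9.isFP_structureModule
    have hcl := H10Coh.isClosed_support _ (H29Fitt.isFT_of_isFP _ hF)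
    refine ⟨⟨h.symm ⁻¹' (CohB1.support (e.functor.obj (OX X)).obj)ᶜ,
      hcl.isOpen_compl.preimage h.symm.continuous⟩, ?_, fun z hz hz' => ?_⟩
    · show h.symm (h y) ∈ (CohB1.support (e.functor.obj (OX X)).obj)ᶜ
      rw [h.symm_apply_apply]
      exact fun hc => hc hy
    · change h.symm (h z) ∈ (CohB1.support (e.functor.obj (OX X)).obj)ᶜ at hz'
      rw [h.symm_apply_apply] at hz'
      exact hz' hz
  obtain ⟨A, hA, hxA, hAO⟩ := exists_isAffineOpen_mem_and_subset (X := X) hyO
  have := (hm A hA.isCompact (OX X)).1 (hO.trans (Set.compl_subset_compl.2 (Set.preimage_mono hAO)))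
  haveI := subsingleton_sections this (le_refl A)
  have h1 : (1 : Γ(X, A)) = 0 := @Subsingleton.elim Γ((OX X).obj, A) _ _ _
  have h2 : (X.presheaf.germ A (h y) hxA) (1 : Γ(X, A)) = 0 := by rw [h1, map_zero]
  rw [map_one] at h2
  exact one_ne_zero h2

omit [CompactSpace X] [QuasiSeparatedSpace X] in
theorem support_subset_compl_of_affine {M : QCoh X} {W : X.Opens} (hW : IsAffineOpen W)
    (h0 : Subsingleton Γ(M.obj, W)) : CohB1.support M.obj ⊆ (W : Set X)ᶜ := by
  intro x hx hxW
  refine hx ?_
  rw [← not_nontrivial_iff_subsingleton, H22Alg.CohSupport.nontrivial_stalk_iff _ M.property hW ⟨x, hxW⟩,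
    Module.support_eq_empty]
  exact fun h => h

/-- The structure module mapped to the image of the modification of its preimage. -/
def unit1 (e : QCoh X ≌ QCoh Y) (W : X.Opens) (hW : IsCompact (W : Set X)) :
    OX Y ⟶ e.functor.obj (MU W hW (e.inverse.obj (OX Y))) :=
  (show OX Y ⟶ e.functor.obj (e.inverse.obj (OX Y)) from (e.counitIso.app (OX Y)).inv) ≫
    e.functor.map (unitU W hW (e.inverse.obj (OX Y)))

include hm in
theorem bijective_unit1 {W : X.Opens} (hW : IsCompact (W : Set X)) {V : Y.Opens} (hV : V ≤ op' h W) :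
    Function.Bijective ((unit1 e W hW).hom.app V) := by
  have h1 : Function.Bijective (((e.counitIso.app (OX Y)).inv).hom.app V) :=
    (H26ZClos.isIso_iff_app _).1 (inferInstanceAs (IsIso ((isQCoh Y).ι.map ((e.counitIso.app (OX Y)).inv)))) V
  exact (((Sig.map_iff hm hW).2 (sig_unitU W hW (e.inverse.obj (OX Y)))).bijective hV).comp h1

include hm in
/-- Some map out of the image of the structure module hits a unit near a given point. -/
theorem exists_hit (y : Y) :
    ∃ (W : X.Opens) (hW : IsCompact (W : Set X)) (lam : OX X ⟶ MU W hW (e.inverse.obj (OX Y)))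
      (V : Y.Opens) (_ : IsCompact (V : Set Y)) (_ : V ≤ op' h W) (_ : y ∈ V)
      (a : Γ((e.functor.obj (OX X)).obj, V)),
      (e.functor.map lam).hom.app V a = (unit1 e W hW).hom.app V (one V) := by
  classical
  let L' := e.inverse.obj (OX Y)
  obtain ⟨W, hW, hxW, -⟩ := exists_isAffineOpen_mem_and_subset (X := X) (x := h y) (U := ⊤) trivial
  have hL'fp : CohB1.IsFP L'.obj := isFP_map e.symm H06EGA9.isFP_structureModule
  haveI : L'.obj.IsQuasicoherent := L'.property
  haveI := H10Coh.finite_sections L'.obj (H29Fitt.isFT_of_isFP _ hL'fp) hW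
  obtain ⟨m, g, hg⟩ := Module.Finite.exists_fin (R := Γ(X, W)) (M := Γ(L'.obj, W))
  haveI : HasFiniteBiproducts (QCoh X) := HasFiniteBiproducts.of_hasFiniteProducts
  let T := MU W hW.isCompact L'
  let D : Fin m → QCoh X := fun _ => OX X
  let φ : ⨁ D ⟶ T := biproduct.desc fun i => hat W hW.isCompact L' (g i)
  -- surjectivity over `W`
  have hsur : ∀ t : Γ(T.obj, W), ∃ b, φ.hom.app W b = t := by
    intro t
    obtain ⟨s, rfl⟩ := ((sig_unitU W hW.isCompact L').bijective le_rfl).2 t
    have hs : s ∈ Submodule.span Γ(X, W) (Set.range g) := hg ▸ Submodule.mem_top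
    induction hs using Submodule.span_induction with
    | mem s hs =>
      obtain ⟨i, rfl⟩ := hs
      refine ⟨(biproduct.ι D i).hom.app W (one W), ?_⟩
      show (biproduct.ι D i ≫ φ).hom.app W (one W) = _
      rw [biproduct.ι_desc, hat_app]
    | zero => exact ⟨0, by rw [map_zero, map_zero]⟩
    | add a b _ _ ha hb =>
      obtain ⟨a', ha'⟩ := ha
      obtain ⟨b', hb'⟩ := hb
      exact ⟨a' + b', by rw [map_add, map_add, ha', hb']⟩
    | smul r a _ ha =>
      obtain ⟨a', ha'⟩ := ha
      exact ⟨r • a', by rw [Scheme.Modules.Hom.app_smul, ha', ← Scheme.Modules.Hom.app_smul]⟩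
  have hck : CohB1.support (cokernel φ).obj ⊆ (W : Set X)ᶜ := by
    refine support_subset_compl_of_affine hW (subsingleton_of_forall_eq 0 fun c => ?_)
    haveI : (cokernel φ).obj.IsQuasicoherent := (cokernel φ).property
    haveI : T.obj.IsQuasicoherent := T.property
    haveI : Epi (cokernel.π φ).hom := inferInstanceAs (Epi ((isQCoh X).ι.map (cokernel.π φ)))
    obtain ⟨t, rfl⟩ := H10Coh.surjective_app_of_epi (cokernel.π φ).hom hW c
    obtain ⟨b, rfl⟩ := hsur t
    show (φ ≫ cokernel.π φ).hom.app W b = 0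
    rw [cokernel.condition]; rfl
  -- transport
  have hck' : CohB1.support (cokernel (e.functor.map φ)).obj ⊆ (h ⁻¹' (W : Set X))ᶜ := by
    rw [← support_iso' (PreservesCokernel.iso e.functor φ)]
    exact (hm W hW.isCompact _).2 hck
  haveI : e.functor.Additive := Functor.additive_of_preserves_binary_products _
  haveI : PreservesFiniteLimits (stalkAb (X := Y) y) :=
    preservesFiniteLimits_of_natIso (H16Derived.KFlat.Stalk.stalkAbIso y)
  haveI : PreservesFiniteColimits (stalkAb (X := Y) y) :=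
    PreservesColimitsOfSize.preservesFiniteColimits.{u, u} _
  haveI : (stalkAb (X := Y) y).Additive := Functor.additive_of_preserves_binary_products _
  let G := e.functor ⋙ (isQCoh Y).ι ⋙ stalkAb y
  haveI : G.Additive := inferInstance
  have hGsur : Function.Surjective (G.map φ) := by
    have hz : IsZero (cokernel (G.map φ)) := by
      refine IsZero.of_iso ?_ (PreservesCokernel.iso ((isQCoh Y).ι ⋙ stalkAb y) (e.functor.map φ)).symm
      exact @AddCommGrpCat.isZero_of_subsingleton _ (notMem_support_iff.1 fun hmem => hck' hmem hxW)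
    haveI : Epi (G.map φ) := Preadditive.epi_of_isZero_cokernel _ hz
    exact (AddCommGrpCat.epi_iff_surjective _).1 inferInstance
  have hyW : y ∈ op' h W := hxW
  let one' : (stalkAb y).obj (e.functor.obj T).obj :=
    (e.functor.obj T).obj.presheaf.germ (op' h W) y hyW
      ((unit1 e W hW.isCompact).hom.app _ (one _))
  obtain ⟨b, hb⟩ := hGsur one'
  have hsum : one' = ∑ i, G.map (hat W hW.isCompact L' (g i)) (G.map (biproduct.π D i) b) := by
    rw [← hb]
    have ht : φ = ∑ i, biproduct.π D i ≫ hat W hW.isCompact L' (g i) := biproduct.desc_eq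
    rw [ht, Functor.map_sum]
    refine (map_sum (AddMonoidHom.mk' (fun f : G.obj (⨁ D) ⟶ G.obj T => f b) (fun _ _ => rfl)) _ _).trans ?_
    exact Finset.sum_congr rfl fun i _ => by rw [Functor.map_comp]; rfl
  choose Vi hyV sec hsec using fun i => TopCat.Presheaf.exists_germ_eq (e.functor.obj (OX X)).obj.presheaf
    (G.map (biproduct.π D i) b)
  obtain ⟨V, hV, hyV0, hVle⟩ := exists_isAffineOpen_mem_and_subset (X := Y) (x := y)
    (U := op' h W ⊓ Finset.univ.inf Vi) ⟨hyW, H10Coh.finset_inf_mem _ Vi fun i _ => hyV i⟩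
  have hVW : V ≤ op' h W := hVle.trans inf_le_left
  have hVi : ∀ i, V ≤ Vi i := fun i => le_trans (show V ≤ Finset.univ.inf Vi from hVle.trans inf_le_right)
    (Finset.inf_le (Finset.mem_univ i))
  let u1 : OX Y ⟶ e.functor.obj T := unit1 e W hW.isCompact
  have hu1 : Function.Bijective (u1.hom.app V) := bijective_unit1 hm hW.isCompact hVW
  choose r hr using fun i => hu1.2 ((e.functor.map (hat W hW.isCompact L' (g i))).hom.app V
    (rs _ (hVi i) (sec i)))
  have hinj : Function.Injective ((stalkAb y).map u1.hom) := by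
    haveI : IsIso ((stalkAb y).map u1.hom) :=
      FPExt.isoAt_of_bijective_app u1.hom hyW fun W' hW' => bijective_unit1 hm hW.isCompact hW'
    exact (ConcreteCategory.bijective_of_isIso ((stalkAb y).map u1.hom)).1
  have hgerm : ∀ {A B : QCoh Y} (f : A ⟶ B) (U' : Y.Opens) (hy' : y ∈ U') (z : Γ(A.obj, U')),
      (stalkAb y).map f.hom (A.obj.presheaf.germ U' y hy' z) = B.obj.presheaf.germ U' y hy' (f.hom.app U' z) :=
    fun f U' hy' z => TopCat.Presheaf.stalkFunctor_map_germ_apply U' y hy' f.hom.mapPresheaf z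
  have hsum1 : ∑ i, Y.presheaf.germ V y hyV0 (r i) = (1 : Y.presheaf.stalk y) := by
    let r' : Fin m → Γ((OX Y).obj, V) := r
    have h0 : (e.functor.obj T).obj.presheaf.germ V y hyV0 (u1.hom.app V (∑ i, r' i)) = one' := by
      rw [map_sum, map_sum]
      refine Eq.trans (Finset.sum_congr rfl fun i _ => ?_) hsum.symm
      show (e.functor.obj T).obj.presheaf.germ V y hyV0 (u1.hom.app V (r i)) = _
      rw [← hsec i, hr i, app_rs, TopCat.Presheaf.germ_res_apply]
      exact (hgerm (e.functor.map (hat W hW.isCompact L' (g i))) _ (hyV i) (sec i)).symm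
    obtain ⟨W3, hy3, i1, i2, h3⟩ := TopCat.Presheaf.germ_eq (OX Y).obj.presheaf y hyV0 hyW (∑ i, r' i)
      (one (op' h W)) (hinj (((hgerm u1 V hyV0 _).trans h0).trans (hgerm u1 _ hyW _).symm))
    have h4 : Y.presheaf.map i1.op (∑ i, r' i : Γ(Y, V)) = Y.presheaf.map i2.op (1 : Γ(Y, op' h W)) := h3
    have h5 := congrArg (Y.presheaf.germ W3 y hy3) h4
    rw [TopCat.Presheaf.germ_res_apply, TopCat.Presheaf.germ_res_apply, map_one] at h5
    rw [← h5]
    exact (map_sum (Y.presheaf.germ V y hyV0).hom _ _).symm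
  obtain ⟨i, hi⟩ : ∃ i, IsUnit (Y.presheaf.germ V y hyV0 (r i)) := by
    by_contra hne
    push Not at hne
    have hmem : (1 : Y.presheaf.stalk y) ∈ IsLocalRing.maximalIdeal (Y.presheaf.stalk y) := by
      rw [← hsum1]
      exact sum_mem fun i _ => hne i
    exact (IsLocalRing.maximalIdeal.isMaximal _).ne_top ((Ideal.eq_top_iff_one _).2 hmem)
  let V2 : Y.Opens := Y.basicOpen (show Γ(Y, V) from r i)
  have hy2 : y ∈ V2 := (Y.mem_basicOpen _ y hyV0).2 hi
  have hV2 : V2 ≤ V := Y.basicOpen_le _
  obtain ⟨v, hv⟩ := (RingedSpace.isUnit_res_basicOpen Y.toRingedSpace (show Γ(Y, V) from r i)).exists_left_inv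
  refine ⟨W, hW.isCompact, hat W hW.isCompact L' (g i), V2, (hV.basicOpen _).isCompact, hV2.trans hVW, hy2,
    (show Γ(Y, V2) from v) • rs _ (hV2.trans (hVi i)) (sec i), ?_⟩
  rw [Scheme.Modules.Hom.app_smul]
  have h3 : (e.functor.map (hat W hW.isCompact L' (g i))).hom.app V2 (rs _ (hV2.trans (hVi i)) (sec i)) =
      u1.hom.app V2 (rs (OX Y).obj hV2 (r i)) := by
    refine Eq.trans ?_ (app_rs u1.hom hV2 _).symm
    rw [show u1.hom.app V (r i) = _ from hr i, ← app_rs]
    exact congrArg _ (QCohAffine.res_res' _ _ _ _ _).symm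
  rw [h3, ← Scheme.Modules.Hom.app_smul]
  exact congrArg (u1.hom.app V2) hv

include hm in
/-- The image of the structure module is invertible. -/
theorem isInvertible_map_OX : PicF.IsInvertible (e.functor.obj (OX X)).obj := by
  intro y
  obtain ⟨W2, hW2, lam, U, hU, hUle, hxU, a, ha⟩ := exists_hit (Match.symm hm) (h y)
  let L' := e.inverse.obj (OX Y)
  let T : QCoh X := e.inverse.obj (MU W2 hW2 (e.functor.obj (OX X)))
  let u : OX X ⟶ T := unit1 e.symm W2 hW2
  have hu : Sig U u := (sig_iff U u).2 (support_ker_coker u.hom U fun V hV =>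
    bijective_unit1 (Match.symm hm) hW2 (hV.trans hUle))
  obtain ⟨κ, hκ⟩ := (isLoc_MU U hU (OX X) u hu).2 (unitU U hU (OX X))
  change u ≫ κ = unitU U hU (OX X) at hκ
  let lam' : L' ⟶ T := e.inverse.map lam
  obtain ⟨μ, hμ⟩ := (isLoc_MU U hU (OX X) (unitU U hU L') (sig_unitU U hU L')).2 (lam' ≫ κ)
  change unitU U hU L' ≫ μ = lam' ≫ κ at hμ
  let α : OX X ⟶ MU U hU L' := hat U hU L' a
  have hαμ : α ≫ μ = unitU U hU (OX X) := by
    refine (hat_unique U hU (s := one U) ?_).trans (hat_unique U hU (s := one U) rfl).symm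
    show μ.hom.app U (α.hom.app U (one U)) = _
    rw [hat_app]
    show (unitU U hU L' ≫ μ).hom.app U a = _
    rw [hμ]
    show κ.hom.app U (lam'.hom.app U a) = _
    rw [show lam'.hom.app U a = u.hom.app U (one U) from ha]
    show (u ≫ κ).hom.app U (one U) = _
    rw [hκ]
  -- after applying the equivalence
  let U' : Y.Opens := op' h U
  let j : OX Y ⟶ e.functor.obj (MU U hU L') := unit1 e U hU
  let k : e.functor.obj (OX X) ⟶ e.functor.obj (MU U hU (OX X)) := e.functor.map (unitU U hU (OX X))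
  let A : e.functor.obj (OX X) ⟶ e.functor.obj (MU U hU L') := e.functor.map α
  let M : e.functor.obj (MU U hU L') ⟶ e.functor.obj (MU U hU (OX X)) := e.functor.map μ
  have hAM : A ≫ M = k := by rw [← e.functor.map_comp, hαμ]
  have hj : ∀ {V : Y.Opens}, V ≤ U' → Function.Bijective (j.hom.app V) := fun hV => bijective_unit1 hm hU hV
  have hk : ∀ {V : Y.Opens}, V ≤ U' → Function.Bijective (k.hom.app V) := fun hV =>
    ((Sig.map_iff hm hU).2 (sig_unitU U hU (OX X))).bijective hV
  obtain ⟨g, hg⟩ := (hk le_rfl).2 (M.hom.app U' (j.hom.app U' (one U')))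
  obtain ⟨c, hc⟩ := (hj le_rfl).2 (A.hom.app U' g)
  let L := (e.functor.obj (OX X)).obj
  have hg' : ∀ {V : Y.Opens} (hV : V ≤ U') (r : Γ(Y, V)),
      M.hom.app V (j.hom.app V (sec V r)) = k.hom.app V (r • rs L hV g) := by
    intro V hV r
    rw [Scheme.Modules.Hom.app_smul, app_rs, hg, ← app_rs, ← app_rs, rs_one, ← Scheme.Modules.Hom.app_smul,
      ← Scheme.Modules.Hom.app_smul]
    exact congrArg _ (congrArg _ (eq_smul_one V _))
  have hlr : ∀ {V : Y.Opens} (hV : V ≤ U') (l : Γ(L, V)) (r : Γ(Y, V)),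
      j.hom.app V (sec V r) = A.hom.app V l → r • rs L hV g = l := by
    intro V hV l r hr
    refine (hk hV).1 ?_
    rw [← hg' hV, hr]
    exact congr(($hAM).hom.app V l)
  have hAg : ∀ {V : Y.Opens} (hV : V ≤ U') (r : Γ(Y, V)),
      A.hom.app V (r • rs L hV g) =
        j.hom.app V (sec V (r * Y.presheaf.map (homOfLE hV).op (show Γ(Y, U') from c))) := by
    intro V hV r
    rw [Scheme.Modules.Hom.app_smul, app_rs, ← hc, ← app_rs, ← Scheme.Modules.Hom.app_smul]
    rfl
  have hfix : ∀ {V : Y.Opens} (hV : V ≤ U') (l : Γ(L, V)), ∃ r : Γ(Y, V), r • rs L hV g = l ∧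
      r * Y.presheaf.map (homOfLE hV).op (show Γ(Y, U') from c) = r := by
    intro V hV l
    obtain ⟨r, hr⟩ := (hj hV).2 (A.hom.app V l)
    refine ⟨r, hlr hV l r hr, ?_⟩
    have := hAg hV (show Γ(Y, V) from r)
    rw [hlr hV l r hr, ← hr] at this
    exact ((hj hV).1 this).symm
  let c' : Γ(Y, U') := c
  have hidem : c' * c' = c' := by
    have h1 := hAg le_rfl c'
    have h2 : c' • rs L (le_refl U') g = rs L (le_refl U') g := by
      refine hlr le_rfl _ c' ?_
      rw [app_rs, ← hc, ← app_rs]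
      refine congrArg _ ?_
      show c = Y.presheaf.map (𝟙 (op U')) c'
      rw [CategoryTheory.Functor.map_id]; rfl
    rw [h2, app_rs, ← hc, ← app_rs] at h1
    have h3 : Y.presheaf.map (𝟙 (op U')) c' = c' := by rw [CategoryTheory.Functor.map_id]; rfl
    have h4 := (hj le_rfl).1 h1
    change Y.presheaf.map (𝟙 (op U')) c' = c' * Y.presheaf.map (𝟙 (op U')) c' at h4
    rw [h3] at h4
    exact h4.symm
  have hyU' : y ∈ U' := hxU
  have hyc : y ∈ Y.basicOpen c' := by
    by_contra hne
    have hy1 : y ∈ Y.basicOpen (1 - c') := by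
      rw [Y.mem_basicOpen _ y hyU', map_sub, map_one]
      refine IsLocalRing.isUnit_one_sub_self_of_mem_nonunits _ fun hu => hne ?_
      exact (Y.mem_basicOpen _ y hyU').2 hu
    refine (show CohB1.support L ⊆ (Y.basicOpen (1 - c') : Set Y)ᶜ from support_subset_compl _ fun V hV => ?_)
      (by rw [support_map_OX hm]; trivial) hy1
    refine subsingleton_of_forall_eq 0 fun l => ?_
    obtain ⟨r, hr, hrc⟩ := hfix (hV.trans (Y.basicOpen_le _)) l
    have hu : IsUnit (Y.presheaf.map (homOfLE (hV.trans (Y.basicOpen_le _))).op (1 - c')) := by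
      rw [← QCohAffine.res_resO (homOfLE (Y.basicOpen_le (1 - c'))) (homOfLE hV) (homOfLE _) (1 - c')]
      exact (RingedSpace.isUnit_res_basicOpen Y.toRingedSpace (1 - c')).map (Y.presheaf.map (homOfLE hV).op).hom
    have hr0 : r = 0 := by
      refine hu.mul_left_injective ?_
      show r * _ = 0 * _
      rw [zero_mul, map_sub, map_one, mul_sub, mul_one]
      exact sub_eq_zero.2 hrc.symm
    rw [← hr, hr0, zero_smul]
  refine ⟨Y.basicOpen c', hyc, H11Tilde.nonempty_iso_structureModule L _ (rs L (Y.basicOpen_le c') g)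
    fun V hV => ?_⟩
  have hVU : V ≤ U' := hV.trans (Y.basicOpen_le c')
  have hres : L.presheaf.map (homOfLE hV).op (rs L (Y.basicOpen_le c') g) = rs L hVU g :=
    QCohAffine.res_res' _ _ _ _ _
  rw [hres]
  refine ⟨fun r r' hrr => ?_, fun l => ?_⟩
  · have h1 := hAg hVU r
    rw [show r • rs L hVU g = r' • rs L hVU g from hrr, hAg hVU r'] at h1
    have h2 := (hj hVU).1 h1
    have hu : IsUnit (Y.presheaf.map (homOfLE hVU).op c') := by
      rw [← QCohAffine.res_resO (homOfLE (Y.basicOpen_le c')) (homOfLE hV) (homOfLE _) c']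
      exact (RingedSpace.isUnit_res_basicOpen Y.toRingedSpace c').map (Y.presheaf.map (homOfLE hV).op).hom
    exact hu.mul_left_injective h2.symm
  · obtain ⟨r, hr, -⟩ := hfix hVU l
    exact ⟨r, hr⟩

end Groth.Agent.H17.GabRos
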