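import Groth.Agent.H17.GabRos.Space
import Groth.Agent.H17.QCohCat.Affine
import Groth.Agent.H05EGA4.ConsTop
import Groth.Agent.H26ZClos.Basic
import Mathlib

/-!
# Sections over compact opens under an equivalence of quasi-coherent module categories
-/

set_option autoImplicit false
set_option linter.style.haveILetI false
set_option maxHeartbeats 1000000

universe u

open CategoryTheory CategoryTheory.Limits AlgebraicGeometry Opposite TopologicalSpace
open QCohCat

noncomputable section

namespace Groth.Agent.H17.GabRos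

open QCohAffine (OX)

variable {X Y : Scheme.{u}}

/-- Restriction of sections of a module. -/
abbrev rs (M : X.Modules) {U V : X.Opens} (h : V ≤ U) : Γ(M, U) → Γ(M, V) :=
  fun s => M.presheaf.map (homOfLE h).op s

theorem app_rs {M N : X.Modules} (f : M ⟶ N) {U V : X.Opens} (h : V ≤ U) (s : Γ(M, U)) :
    f.app V (rs M h s) = rs N h (f.app U s) :=
  congr($(f.mapPresheaf.naturality (homOfLE h).op) s)

/-- The section `1` of the structure module. -/
def one (U : X.Opens) : Γ((OX X).obj, U) := (1 : Γ(X, U))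

theorem rs_one {U V : X.Opens} (h : V ≤ U) : rs (OX X).obj h (one U) = one V :=
  map_one (X.presheaf.map (homOfLE h).op).hom

/-- A function as a section of the structure module. -/
abbrev sec (U : X.Opens) (a : Γ(X, U)) : Γ((OX X).obj, U) := a

theorem eq_smul_one (U : X.Opens) (a : Γ((OX X).obj, U)) : a = (show Γ(X, U) from a) • one U :=
  (mul_one (show Γ(X, U) from a)).symm

theorem app_eq_smul (W : QCoh X) (f : OX X ⟶ W) (U : X.Opens) (a : Γ(X, U)) :
    f.hom.app U (show Γ((OX X).obj, U) from a) = a • f.hom.app U (one U) := by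
  rw [← Scheme.Modules.Hom.app_smul]
  exact congrArg _ (eq_smul_one U _)

/-- Morphisms out of the structure module are global sections. -/
theorem bijective_eval (W : QCoh X) :
    Function.Bijective fun f : OX X ⟶ W => f.hom.app ⊤ (one ⊤) := by
  constructor
  · intro f f' h
    refine ObjectProperty.hom_ext _ (Scheme.Modules.hom_ext _ _ fun V => ?_)
    ext (a : Γ(X, V))
    show f.hom.app V a = f'.hom.app V a
    have key : ∀ k : OX X ⟶ W, k.hom.app V a = a • rs W.obj (le_top : V ≤ ⊤) (k.hom.app ⊤ (one ⊤)) :=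
      fun k => (app_eq_smul W k V a).trans
        (congrArg (a • ·) ((congrArg (k.hom.app V) (rs_one (le_top : V ≤ ⊤)).symm).trans (app_rs k.hom _ _)))
    rw [key f, key f']
    exact congrArg (fun z => a • rs W.obj le_top z) h
  · intro s
    refine ⟨ObjectProperty.homMk (H11Tilde.homOfGlobal W.obj s), ?_⟩
    refine (H11Tilde.homOfGlobal_app W.obj s ⊤ _).trans ?_
    refine Eq.trans (one_smul Γ(X, ⊤) _) ?_
    show W.obj.presheaf.map (homOfLE (le_top : (⊤ : X.Opens) ≤ ⊤)).op s = s
    rw [show (homOfLE (le_top : (⊤ : X.Opens) ≤ ⊤)).op = 𝟙 (op ⊤) from rfl, CategoryTheory.Functor.map_id]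
    rfl

section Units

variable [CompactSpace X] [QuasiSeparatedSpace X]

/-- Maps bijective on sections inside `U`, by supports of kernel and cokernel. -/
def Sig (U : X.Opens) {A B : QCoh X} (f : A ⟶ B) : Prop :=
  CohB1.support (kernel f).obj ⊆ (U : Set X)ᶜ ∧ CohB1.support (cokernel f).obj ⊆ (U : Set X)ᶜ

theorem sig_iff (U : X.Opens) {A B : QCoh X} (f : A ⟶ B) :
    Sig U f ↔ CohB1.support (kernel f.hom) ⊆ (U : Set X)ᶜ ∧ CohB1.support (cokernel f.hom) ⊆ (U : Set X)ᶜ := by
  rw [Sig, show CohB1.support (kernel f).obj = CohB1.support (kernel f.hom) from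
      support_iso (PreservesKernel.iso (isQCoh X).ι f),
    show CohB1.support (cokernel f).obj = CohB1.support (cokernel f.hom) from
      support_iso (PreservesCokernel.iso (isQCoh X).ι f)]

theorem Sig.bijective {U : X.Opens} {A B : QCoh X} {f : A ⟶ B} (h : Sig U f) {V : X.Opens} (hV : V ≤ U) :
    Function.Bijective (f.hom.app V) :=
  bijective_app_of_support f.hom U ((sig_iff U f).1 h).1 ((sig_iff U f).1 h).2 hV

theorem Sig.mono {U V : X.Opens} (hV : V ≤ U) {A B : QCoh X} {f : A ⟶ B} (h : Sig U f) : Sig V f :=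
  ⟨h.1.trans (Set.compl_subset_compl.2 hV), h.2.trans (Set.compl_subset_compl.2 hV)⟩

variable (U : X.Opens) (hU : IsCompact (U : Set X))

/-- `j_*(M|_U)`. -/
def MU (M : QCoh X) : QCoh X :=
  haveI : QuasiCompact U.ι := H05EGA4.ConsTop.quasiCompact_ι X hU
  (QCohLoc.pushQ U).obj ((QCohLoc.resQ U).obj M)

/-- The unit. -/
def unitU (M : QCoh X) : M ⟶ MU U hU M :=
  haveI : QuasiCompact U.ι := H05EGA4.ConsTop.quasiCompact_ι X hU
  ObjectProperty.homMk ((ZClos.resPushUnit U).app M.obj)

/-- Functoriality. -/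
def mapU {M N : QCoh X} (f : M ⟶ N) : MU U hU M ⟶ MU U hU N :=
  haveI : QuasiCompact U.ι := H05EGA4.ConsTop.quasiCompact_ι X hU
  ObjectProperty.homMk ((ZClos.resPush U).map f.hom)

theorem unitU_mapU {M N : QCoh X} (f : M ⟶ N) : unitU U hU M ≫ mapU U hU f = f ≫ unitU U hU N :=
  ObjectProperty.hom_ext _ ((ZClos.resPushUnit U).naturality f.hom).symm

theorem sig_unitU (M : QCoh X) : Sig U (unitU U hU M) :=
  (sig_iff U _).2 (support_ker_coker _ U fun _ hV => bijective_resPushUnit_app U M.obj hV)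

/-- An object is local for `U`. -/
def IsLoc (W : QCoh X) : Prop :=
  ∀ ⦃A B : QCoh X⦄ (f : A ⟶ B), Sig U f → Function.Bijective fun g : B ⟶ W => f ≫ g

theorem isLoc_MU (M : QCoh X) : IsLoc U (MU U hU M) := by
  intro A B f hf
  haveI : QuasiCompact U.ι := H05EGA4.ConsTop.quasiCompact_ι X hU
  let adj := QCohLoc.adjQ U
  haveI : IsIso ((QCohLoc.resQ U).map f) := by
    haveI : IsIso ((ObjectProperty.ι (isQCoh U.toScheme)).map ((QCohLoc.resQ U).map f)) :=
      (QCohLoc.isIso_restrict_iff U f.hom).2 ((sig_iff U f).1 hf)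
    exact isIso_of_fully_faithful (ObjectProperty.ι (isQCoh U.toScheme)) _
  let T := (QCohLoc.resQ U).obj M
  have e : ∀ g : B ⟶ MU U hU M, f ≫ g =
      adj.homEquiv A T ((QCohLoc.resQ U).map f ≫ (adj.homEquiv B T).symm g) := fun g => by
    exact ((adj.homEquiv_naturality_left f _).trans
      (congrArg (f ≫ ·) ((adj.homEquiv B T).apply_symm_apply g))).symm
  have e' : (fun g : B ⟶ MU U hU M => f ≫ g) =
      (adj.homEquiv A T) ∘ (fun k => (QCohLoc.resQ U).map f ≫ k) ∘ (adj.homEquiv B T).symm := funext e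
  rw [e']
  exact (adj.homEquiv A T).bijective.comp
    (((asIso ((QCohLoc.resQ U).map f)).homFromEquiv (Z := T)).symm.bijective.comp (adj.homEquiv B T).symm.bijective)

include hU in
theorem bijective_top (W : QCoh X) (hW : IsLoc U W) :
    Function.Bijective (rs W.obj (le_top : U ≤ ⊤)) := by
  have hu := hW (unitU U hU W) (sig_unitU U hU W)
  obtain ⟨r, hr⟩ := hu.2 (𝟙 W)
  have hr' : r ≫ unitU U hU W = 𝟙 _ := by
    refine (isLoc_MU U hU W (unitU U hU W) (sig_unitU U hU W)).1 ?_
    show unitU U hU W ≫ r ≫ unitU U hU W = unitU U hU W ≫ 𝟙 _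
    rw [← Category.assoc, show unitU U hU W ≫ r = 𝟙 W from hr, Category.id_comp, Category.comp_id]
  haveI : IsIso (unitU U hU W) := ⟨r, hr, hr'⟩
  haveI : IsIso ((ZClos.resPushUnit U).app W.obj) :=
    inferInstanceAs (IsIso ((isQCoh X).ι.map (unitU U hU W)))
  have h := (H26ZClos.isIso_iff_app ((ZClos.resPushUnit U).app W.obj)).1 inferInstance ⊤
  rw [ZClos.resPushUnit_app_app] at h
  have e' : U.ι ''ᵁ U.ι ⁻¹ᵁ ⊤ = U := by rw [ZClos.ι_image_preimage, inf_top_eq]
  have key : ∀ (A : X.Opens) (hA : A ≤ ⊤), A = U →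
      Function.Bijective (W.obj.presheaf.map (homOfLE hA).op) → Function.Bijective (rs W.obj (le_top : U ≤ ⊤)) := by
    rintro A hA rfl h; exact h
  exact key _ (U.ι.image_preimage_le ⊤) e' h

/-- The morphism attached to a section over `U`. -/
theorem existsUnique_hat (M : QCoh X) (s : Γ(M.obj, U)) :
    ∃! f : OX X ⟶ MU U hU M, f.hom.app U (one U) = (unitU U hU M).hom.app U s := by
  have hb : Function.Bijective fun f : OX X ⟶ MU U hU M => f.hom.app U (one U) := by
    have : (fun f : OX X ⟶ MU U hU M => f.hom.app U (one U)) =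
        rs (MU U hU M).obj le_top ∘ fun f : OX X ⟶ MU U hU M => f.hom.app ⊤ (one ⊤) := funext fun f => by
      show f.hom.app U (one U) = rs (MU U hU M).obj le_top (f.hom.app ⊤ (one ⊤))
      rw [← app_rs, rs_one]
    rw [this]
    exact (bijective_top U hU _ (isLoc_MU U hU M)).comp (bijective_eval _)
  exact hb.existsUnique _

/-- The morphism attached to a section over `U`. -/
def hat (M : QCoh X) (s : Γ(M.obj, U)) : OX X ⟶ MU U hU M := (existsUnique_hat U hU M s).choose

theorem hat_app (M : QCoh X) (s : Γ(M.obj, U)) : (hat U hU M s).hom.app U (one U) = (unitU U hU M).hom.app U s :=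
  (existsUnique_hat U hU M s).choose_spec.1

theorem hat_unique {M : QCoh X} {s : Γ(M.obj, U)} {f : OX X ⟶ MU U hU M}
    (h : f.hom.app U (one U) = (unitU U hU M).hom.app U s) : f = hat U hU M s :=
  (existsUnique_hat U hU M s).choose_spec.2 f h

end Units

variable [CompactSpace X] [QuasiSeparatedSpace X] [CompactSpace Y] [QuasiSeparatedSpace Y]
  (e : QCoh X ≌ QCoh Y) (h : Y ≃ₜ X)

/-- The equivalence respects vanishing on compact opens. -/
def Match : Prop :=
  ∀ (U : X.Opens), IsCompact (U : Set X) → ∀ M : QCoh X,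
    (CohB1.support (e.functor.obj M).obj ⊆ (h ⁻¹' U : Set Y)ᶜ ↔ CohB1.support M.obj ⊆ (U : Set X)ᶜ)

/-- The corresponding open. -/
def op' (U : X.Opens) : Y.Opens := ⟨h ⁻¹' U, U.2.preimage h.continuous⟩

theorem op'_mono {U V : X.Opens} (hV : V ≤ U) : op' h V ≤ op' h U := fun _ hy => hV hy

theorem isCompact_op' {U : X.Opens} (hU : IsCompact (U : Set X)) : IsCompact (op' h U : Set Y) :=
  h.isCompact_preimage.2 hU

variable {e h} (hm : Match e h) {U : X.Opens} (hU : IsCompact (U : Set X))

include hm hU in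
theorem Sig.map_iff {A B : QCoh X} {f : A ⟶ B} : Sig (op' h U) (e.functor.map f) ↔ Sig U f := by
  have h1 := support_iso' (PreservesKernel.iso e.functor f)
  have h2 := support_iso' (PreservesCokernel.iso e.functor f)
  show CohB1.support (kernel (e.functor.map f)).obj ⊆ _ ∧ CohB1.support (cokernel (e.functor.map f)).obj ⊆ _ ↔ _
  rw [← h1, ← h2]
  exact and_congr (hm U hU _) (hm U hU _)

include hm hU in
theorem isLoc_map {W : QCoh X} (hW : IsLoc U W) : IsLoc (op' h U) (e.functor.obj W) := by
  intro A B f hf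
  let adj := e.symm.toAdjunction
  have hf' : Sig U (e.inverse.map f) := by
    rw [← Sig.map_iff hm hU (e := e)]
    have : e.functor.map (e.inverse.map f) = e.counit.app A ≫ f ≫ e.counitInv.app B := by
      rw [← Category.assoc]
      simp [Equivalence.fun_inv_map]
    refine (sig_iff _ _).2 (support_ker_coker _ _ fun V hV => ?_)
    rw [this]
    have hb := hf.bijective hV
    have h1 : Function.Bijective ((e.counit.app A).hom.app V) :=
      ((H26ZClos.isIso_iff_app _).1 (inferInstanceAs (IsIso ((isQCoh Y).ι.map (e.counit.app A)))) V)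
    have h2 : Function.Bijective ((e.counitInv.app B).hom.app V) :=
      ((H26ZClos.isIso_iff_app _).1 (inferInstanceAs (IsIso ((isQCoh Y).ι.map (e.counitInv.app B)))) V)
    exact h2.comp (hb.comp h1)
  have e' : (fun g : B ⟶ e.functor.obj W => f ≫ g) =
      (adj.homEquiv A W) ∘ (fun k : e.inverse.obj B ⟶ W => e.inverse.map f ≫ k) ∘ (adj.homEquiv B W).symm := by
    funext g
    show f ≫ g = adj.homEquiv A W (e.inverse.map f ≫ (adj.homEquiv B W).symm g)
    exact ((adj.homEquiv_naturality_left f _).trans (congrArg (f ≫ ·) (Equiv.apply_symm_apply _ g))).symm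
  rw [e']
  exact (adj.homEquiv A W).bijective.comp ((hW _ hf').comp (adj.homEquiv B W).symm.bijective)

variable (ε : e.functor.obj (OX X) ≅ OX Y)

/-- The generator of the image of the structure module. -/
def gen (V : Y.Opens) : Γ((e.functor.obj (OX X)).obj, V) := ε.inv.hom.app V (one V)

theorem rs_gen {V W : Y.Opens} (hW : W ≤ V) : rs (e.functor.obj (OX X)).obj hW (gen ε V) = gen ε W := by
  rw [gen, gen, ← app_rs, rs_one]

include hm hU in
theorem bijective_eval_map {W : QCoh X} (hW : IsLoc U W) :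
    Function.Bijective fun f : OX X ⟶ W => (e.functor.map f).hom.app (op' h U) (gen ε (op' h U)) := by
  have : (fun f : OX X ⟶ W => (e.functor.map f).hom.app (op' h U) (gen ε (op' h U))) =
      rs (e.functor.obj W).obj le_top ∘ (fun g : OX Y ⟶ e.functor.obj W => g.hom.app ⊤ (one ⊤)) ∘
        (fun g => ε.inv ≫ g) ∘ fun f : OX X ⟶ W => e.functor.map f := by
    funext f
    show _ = rs _ le_top ((e.functor.map f).hom.app ⊤ (ε.inv.hom.app ⊤ (one ⊤)))
    rw [← app_rs, ← app_rs, rs_one]
    rfl
  rw [this]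
  exact (bijective_top _ (isCompact_op' h hU) _ (isLoc_map hm hU hW)).comp
    ((bijective_eval _).comp (ε.homFromEquiv.bijective.comp e.fullyFaithfulFunctor.homEquiv.bijective))

include hm hU in
theorem existsUnique_θ (M : QCoh X) (s : Γ(M.obj, U)) :
    ∃! t : Γ((e.functor.obj M).obj, op' h U),
      (e.functor.map (unitU U hU M)).hom.app (op' h U) t =
        (e.functor.map (hat U hU M s)).hom.app (op' h U) (gen ε (op' h U)) :=
  (((Sig.map_iff hm hU).2 (sig_unitU U hU M)).bijective le_rfl).existsUnique _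

/-- The map on sections over a compact open. -/
def θ (M : QCoh X) (s : Γ(M.obj, U)) : Γ((e.functor.obj M).obj, op' h U) :=
  (existsUnique_θ hm hU ε M s).choose

theorem unit_θ (M : QCoh X) (s : Γ(M.obj, U)) :
    (e.functor.map (unitU U hU M)).hom.app (op' h U) (θ hm hU ε M s) =
      (e.functor.map (hat U hU M s)).hom.app (op' h U) (gen ε (op' h U)) :=
  (existsUnique_θ hm hU ε M s).choose_spec.1

/-- Characterisation through any modification away from `U`. -/
theorem θ_eq {M W : QCoh X} (u : M ⟶ W) (hu : Sig U u) (f : OX X ⟶ W) (s : Γ(M.obj, U))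
    (hs : f.hom.app U (one U) = u.hom.app U s) :
    (e.functor.map u).hom.app (op' h U) (θ hm hU ε M s) =
      (e.functor.map f).hom.app (op' h U) (gen ε (op' h U)) := by
  obtain ⟨m, hm'⟩ := (isLoc_MU U hU M u hu).2 (unitU U hU M)
  change u ≫ m = unitU U hU M at hm'
  have hf : f ≫ m = hat U hU M s := by
    refine hat_unique U hU ?_
    rw [← hm']
    exact congrArg (m.hom.app U) hs
  have h1 : Function.Injective ((e.functor.map m).hom.app (op' h U)) := by
    have hb := ((Sig.map_iff hm hU (e := e)).2 (sig_unitU U hU M)).bijective le_rfl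
    have hc := ((Sig.map_iff hm hU (e := e)).2 hu).bijective le_rfl
    rw [← hm', e.functor.map_comp] at hb
    exact Function.Injective.of_comp_right hb.1 hc.2
  refine h1 ?_
  have h2 := unit_θ hm hU ε M s
  rw [← hm', ← hf, e.functor.map_comp, e.functor.map_comp] at h2
  exact h2

theorem θ_eq_iff (M : QCoh X) (s : Γ(M.obj, U)) (t : Γ((e.functor.obj M).obj, op' h U)) :
    θ hm hU ε M s = t ↔ (e.functor.map (unitU U hU M)).hom.app (op' h U) t =
      (e.functor.map (hat U hU M s)).hom.app (op' h U) (gen ε (op' h U)) :=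
  ⟨fun h' => h' ▸ unit_θ hm hU ε M s, fun h' => ((existsUnique_θ hm hU ε M s).choose_spec.2 t h').symm⟩

theorem θ_add (M : QCoh X) (s s' : Γ(M.obj, U)) :
    θ hm hU ε M (s + s') = θ hm hU ε M s + θ hm hU ε M s' := by
  haveI : e.functor.Additive := Functor.additive_of_preserves_binary_products _
  rw [θ_eq_iff, map_add, unit_θ, unit_θ,
    show hat U hU M (s + s') = hat U hU M s + hat U hU M s' from
      (hat_unique U hU (show (hat U hU M s + hat U hU M s').hom.app U (one U) = _ by
        rw [map_add, ← hat_app, ← hat_app]; rfl)).symm,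
    Functor.map_add]
  rfl

theorem bijective_θ (M : QCoh X) : Function.Bijective (θ hm hU ε M) := by
  have hb := ((Sig.map_iff hm hU (e := e)).2 (sig_unitU U hU M)).bijective le_rfl
  have hg := bijective_eval_map hm hU ε (isLoc_MU U hU M)
  have hh : Function.Bijective (hat U hU M) := by
    constructor
    · intro s s' he
      have := hat_app U hU M s
      rw [he, hat_app] at this
      exact ((sig_unitU U hU M).bijective le_rfl).1 this.symm
    · intro f
      obtain ⟨s, hs⟩ := ((sig_unitU U hU M).bijective le_rfl).2 (f.hom.app U (one U))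
      exact ⟨s, (hat_unique U hU hs.symm).symm⟩
  have : (e.functor.map (unitU U hU M)).hom.app (op' h U) ∘ θ hm hU ε M =
      (fun f : OX X ⟶ MU U hU M => (e.functor.map f).hom.app (op' h U) (gen ε (op' h U))) ∘ hat U hU M :=
    funext fun s => unit_θ hm hU ε M s
  exact (Function.Bijective.of_comp_iff' hb _).1 (this ▸ hg.comp hh)

theorem θ_natural {M N : QCoh X} (f : M ⟶ N) (s : Γ(M.obj, U)) :
    θ hm hU ε N (f.hom.app U s) = (e.functor.map f).hom.app (op' h U) (θ hm hU ε M s) := by
  rw [θ_eq_iff, show hat U hU N (f.hom.app U s) = hat U hU M s ≫ mapU U hU f from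
    (hat_unique U hU ?_).symm, e.functor.map_comp]
  · show (e.functor.map f ≫ e.functor.map (unitU U hU N)).hom.app _ _ = _
    rw [← e.functor.map_comp, ← unitU_mapU, e.functor.map_comp]
    exact congrArg ((e.functor.map (mapU U hU f)).hom.app (op' h U)) (unit_θ hm hU ε M s)
  · show (mapU U hU f).hom.app U ((hat U hU M s).hom.app U (one U)) = _
    rw [hat_app]
    exact congr(($(unitU_mapU U hU f)).hom.app U s)

theorem θ_res {V : X.Opens} (hV : IsCompact (V : Set X)) (hVU : V ≤ U) (M : QCoh X) (s : Γ(M.obj, U)) :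
    θ hm hV ε M (rs M.obj hVU s) = rs (e.functor.obj M).obj (op'_mono h hVU) (θ hm hU ε M s) := by
  obtain ⟨r, hr⟩ := (isLoc_MU V hV M (unitU U hU M) ((sig_unitU U hU M).mono hVU)).2 (unitU V hV M)
  change unitU U hU M ≫ r = unitU V hV M at hr
  rw [θ_eq_iff, show hat V hV M (rs M.obj hVU s) = hat U hU M s ≫ r from (hat_unique V hV ?_).symm,
    ← hr, e.functor.map_comp, e.functor.map_comp]
  · show (e.functor.map r).hom.app _ ((e.functor.map (unitU U hU M)).hom.app _ (rs _ _ _)) =
      (e.functor.map r).hom.app _ ((e.functor.map (hat U hU M s)).hom.app _ (gen ε (op' h V)))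
    refine congrArg _ ?_
    rw [app_rs, unit_θ, ← app_rs, rs_gen]
  · show r.hom.app V ((hat U hU M s).hom.app V (one V)) = _
    rw [← rs_one hVU, app_rs, hat_app, ← app_rs, ← hr]
    rfl

/-- The map on functions. -/
def ρ (a : Γ(X, U)) : Γ(Y, op' h U) := ε.hom.hom.app (op' h U) (θ hm hU ε (OX X) (sec U a))

theorem θ_OX (a : Γ(X, U)) : θ hm hU ε (OX X) (sec U a) = ρ hm hU ε a • gen ε (op' h U) := by
  have hi : ∀ t, ε.inv.hom.app (op' h U) (ε.hom.hom.app (op' h U) t) = t := fun t =>
    congr(($(ε.hom_inv_id)).hom.app (op' h U) t)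
  refine Eq.trans (hi _).symm ?_
  show ε.inv.hom.app (op' h U) (show Γ((OX Y).obj, op' h U) from ρ hm hU ε a) = _
  rw [gen, ← Scheme.Modules.Hom.app_smul]
  exact congrArg _ (eq_smul_one _ _)

theorem θ_smul (M : QCoh X) (a : Γ(X, U)) (s : Γ(M.obj, U)) :
    θ hm hU ε M (a • s) = ρ hm hU ε a • θ hm hU ε M s := by
  obtain ⟨st, hst⟩ := (isLoc_MU U hU M (unitU U hU (OX X)) (sig_unitU U hU (OX X))).2 (hat U hU M s)
  change unitU U hU (OX X) ≫ st = hat U hU M s at hst
  rw [θ_eq_iff, show hat U hU M (a • s) = hat U hU (OX X) (sec U a) ≫ st from (hat_unique U hU ?_).symm,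
    e.functor.map_comp]
  · show _ = (e.functor.map st).hom.app _ ((e.functor.map (hat U hU (OX X) (sec U a))).hom.app _ (gen ε (op' h U)))
    rw [← unit_θ hm hU ε (OX X) (sec U a)]
    show _ = (e.functor.map (unitU U hU (OX X)) ≫ e.functor.map st).hom.app _ (θ hm hU ε (OX X) (sec U a))
    rw [← e.functor.map_comp, hst, θ_OX, Scheme.Modules.Hom.app_smul, Scheme.Modules.Hom.app_smul, unit_θ]
  · show st.hom.app U ((hat U hU (OX X) (sec U a)).hom.app U (one U)) = _
    rw [hat_app]
    show (unitU U hU (OX X) ≫ st).hom.app U (sec U a) = _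
    rw [hst, app_eq_smul, hat_app, Scheme.Modules.Hom.app_smul]

theorem ρ_one : ρ hm hU ε 1 = 1 := by
  have : θ hm hU ε (OX X) (one U) = gen ε (op' h U) := by
    rw [θ_eq_iff, show hat U hU (OX X) (one U) = unitU U hU (OX X) from (hat_unique U hU rfl).symm]
  show ε.hom.hom.app (op' h U) (θ hm hU ε (OX X) (one U)) = _
  rw [this]
  exact congr(($(ε.inv_hom_id)).hom.app (op' h U) (one _))

theorem ρ_mul (a b : Γ(X, U)) : ρ hm hU ε (a * b) = ρ hm hU ε a * ρ hm hU ε b := by
  show ε.hom.hom.app (op' h U) (θ hm hU ε (OX X) (a • sec U b)) = _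
  rw [θ_smul, Scheme.Modules.Hom.app_smul]
  rfl

theorem ρ_add (a b : Γ(X, U)) : ρ hm hU ε (a + b) = ρ hm hU ε a + ρ hm hU ε b := by
  show ε.hom.hom.app (op' h U) (θ hm hU ε (OX X) (sec U a + sec U b)) = _
  rw [θ_add, map_add]
  rfl

theorem ρ_res {V : X.Opens} (hV : IsCompact (V : Set X)) (hVU : V ≤ U) (a : Γ(X, U)) :
    ρ hm hV ε (X.presheaf.map (homOfLE hVU).op a) =
      Y.presheaf.map (homOfLE (op'_mono h hVU)).op (ρ hm hU ε a) := by
  show ε.hom.hom.app (op' h V) (θ hm hV ε (OX X) (rs (OX X).obj hVU (sec U a))) = _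
  rw [θ_res hm hU ε hV hVU, app_rs]
  rfl

theorem bijective_ρ : Function.Bijective (ρ (U := U) hm hU ε) := by
  refine Function.Bijective.comp ?_ (bijective_θ hm hU ε (OX X))
  exact (H26ZClos.isIso_iff_app ε.hom.hom).1 (inferInstanceAs (IsIso ((isQCoh Y).ι.map ε.hom))) _

end Groth.Agent.H17.GabRos
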