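import Groth.Agent.H17.QCohLoc
import Groth.Agent.H17.FPExt.Basic
import Groth.Agent.H10Coh.Support
import Groth.Prelude.Def_ZClos
import Mathlib

/-!
# Supports of modules, vanishing on opens
-/

set_option autoImplicit false
set_option linter.style.haveILetI false

universe u

open CategoryTheory CategoryTheory.Limits AlgebraicGeometry Opposite TopologicalSpace

noncomputable section

namespace Groth.Agent.H17.GabRos

open PushColim FPExt

variable {X Z : Scheme.{u}}

theorem mem_support_iff {M : X.Modules} {x : X} :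
    x ∈ CohB1.support M ↔ ¬ Subsingleton ((stalkAb x).obj M) := Iff.rfl

theorem notMem_support_iff {M : X.Modules} {x : X} :
    x ∉ CohB1.support M ↔ Subsingleton (M.presheaf.stalk x) := not_not

theorem support_iso {M N : X.Modules} (e : M ≅ N) : CohB1.support M = CohB1.support N := by
  ext x
  exact not_congr ((stalkAb x).mapIso e).addCommGroupIsoToAddEquiv.toEquiv.subsingleton_congr

theorem support_eq_empty_of_isZero {M : X.Modules} (h : IsZero M) : CohB1.support M = ∅ := by
  ext x
  simp only [Set.mem_empty_iff_false, iff_false, notMem_support_iff]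
  exact AddCommGrpCat.subsingleton_of_isZero ((stalkAb x).map_isZero h)

theorem isZero_of_support_eq_empty {M : X.Modules} (h : CohB1.support M = ∅) : IsZero M := by
  refine (IsZero.iff_id_eq_zero _).2 (Scheme.Modules.hom_ext _ _ fun V => ?_)
  ext s
  refine TopCat.Presheaf.section_ext (⟨_, M.isSheaf⟩ : TopCat.Sheaf Ab X) V _ _ fun y _ => ?_
  haveI : Subsingleton (M.presheaf.stalk y) := notMem_support_iff.1 (by rw [h]; exact fun h => h)
  exact Subsingleton.elim _ _

theorem subsingleton_sections {M : X.Modules} {O : X.Opens} (h : CohB1.support M ⊆ (O : Set X)ᶜ)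
    {V : X.Opens} (hV : V ≤ O) : Subsingleton Γ(M, V) := by
  refine subsingleton_of_forall_eq 0 fun s => ?_
  refine TopCat.Presheaf.section_ext (⟨_, M.isSheaf⟩ : TopCat.Sheaf Ab X) V _ _ fun y hy => ?_
  haveI : Subsingleton (M.presheaf.stalk y) := notMem_support_iff.1 fun hm => h hm (hV hy)
  exact Subsingleton.elim _ _

theorem support_subset_compl {M : X.Modules} (O : X.Opens)
    (h : ∀ V ≤ O, Subsingleton Γ(M, V)) : CohB1.support M ⊆ (O : Set X)ᶜ := by
  intro x hx hxO
  refine hx (subsingleton_of_forall_eq 0 fun a => ?_)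
  obtain ⟨V, hV, s, rfl⟩ := M.presheaf.exists_germ_eq a
  rw [← TopCat.Presheaf.germ_res_apply M.presheaf (homOfLE (inf_le_left : V ⊓ O ≤ V)) x ⟨hV, hxO⟩,
    @Subsingleton.elim _ (h _ inf_le_right) (M.presheaf.map _ s) 0, map_zero]

theorem support_restrict (j : Z ⟶ X) [IsOpenImmersion j] (M : X.Modules) :
    CohB1.support ((Scheme.Modules.restrictFunctor j).obj M) = j ⁻¹' CohB1.support M := by
  ext z
  exact not_congr
    (Scheme.Modules.restrictStalkNatIso j z |>.app M).addCommGroupIsoToAddEquiv.toEquiv.subsingleton_congr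

theorem support_push_subset (j : Z ⟶ X) (N : Z.Modules) (O : X.Opens)
    (h : CohB1.support N ⊆ (j ⁻¹ᵁ O : Set Z)ᶜ) :
    CohB1.support ((Scheme.Modules.pushforward j).obj N) ⊆ (O : Set X)ᶜ :=
  support_subset_compl O fun V hV => subsingleton_sections h ((Opens.map j.base).map (homOfLE hV)).le

theorem support_shortExact {S : ShortComplex X.Modules} (hS : S.ShortExact) :
    CohB1.support S.X₂ = CohB1.support S.X₁ ∪ CohB1.support S.X₃ := by
  ext x
  haveI : PreservesFiniteLimits (stalkAb (X := X) x) :=
    preservesFiniteLimits_of_natIso (H16Derived.KFlat.Stalk.stalkAbIso x)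
  haveI : PreservesFiniteColimits (stalkAb (X := X) x) :=
    PreservesColimitsOfSize.preservesFiniteColimits.{u, u} _
  haveI : (stalkAb (X := X) x).Additive := Functor.additive_of_preserves_binary_products _
  have hS' := hS.map_of_exact (stalkAb x)
  have hf : Function.Injective ((stalkAb x).map S.f) := (AddCommGrpCat.mono_iff_injective _).1 hS'.mono_f
  have hg : Function.Surjective ((stalkAb x).map S.g) := (AddCommGrpCat.epi_iff_surjective _).1 hS'.epi_g
  rw [Set.mem_union, mem_support_iff, mem_support_iff, mem_support_iff, ← not_and_or, not_iff_not]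
  constructor
  · intro h
    exact ⟨hf.subsingleton, hg.subsingleton⟩
  · rintro ⟨h₁, h₃⟩
    refine subsingleton_of_forall_eq 0 fun a => ?_
    obtain ⟨b, rfl⟩ := (ShortComplex.ab_exact_iff _).1 hS'.exact a (@Subsingleton.elim _ h₃ _ _)
    rw [@Subsingleton.elim _ h₁ b 0]
    exact map_zero _

theorem support_sub_of_mono {A B : X.Modules} (f : A ⟶ B) [Mono f] :
    CohB1.support A ⊆ CohB1.support B := by
  intro x hx
  have := support_shortExact (S := ShortComplex.mk f (cokernel.π f) (cokernel.condition f))
    { exact := ShortComplex.exact_of_g_is_cokernel _ (cokernelIsCokernel f) }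
  exact this.ge (Or.inl hx)

theorem support_sub_of_epi {A B : X.Modules} (f : A ⟶ B) [Epi f] :
    CohB1.support B ⊆ CohB1.support A := by
  intro x hx
  have := support_shortExact (S := ShortComplex.mk (kernel.ι f) f (kernel.condition f))
    { exact := ShortComplex.exact_of_f_is_kernel _ (kernelIsKernel f) }
  exact this.ge (Or.inr hx)

theorem support_sigma_subset {ι : Type u} (M : ι → X.Modules) {W : Set X}
    (h : ∀ i, CohB1.support (M i) ⊆ W) : CohB1.support (∐ M) ⊆ W := by
  intro x hx
  by_contra hxW
  refine hx (AddCommGrpCat.subsingleton_of_isZero (G := (stalkAb x).obj (∐ M)) ?_)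
  refine (IsZero.iff_id_eq_zero _).2 ?_
  refine (isColimitOfPreserves (stalkAb x) (colimit.isColimit (Discrete.functor M))).hom_ext fun i => ?_
  have : IsZero ((stalkAb x).obj (M i.as)) :=
    @AddCommGrpCat.isZero_of_subsingleton _ (notMem_support_iff.1 fun hm => hxW (h i.as hm))
  exact this.eq_of_src _ _

/-- Kernel and cokernel of a map bijective on sections inside `O` vanish on `O`. -/
theorem support_ker_coker {A B : X.Modules} (φ : A ⟶ B) (O : X.Opens)
    (h : ∀ V ≤ O, Function.Bijective (φ.app V)) :
    CohB1.support (kernel φ) ⊆ (O : Set X)ᶜ ∧ CohB1.support (cokernel φ) ⊆ (O : Set X)ᶜ := by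
  haveI : IsIso ((Scheme.Modules.restrictFunctor O.ι).map φ) :=
    isIso_restrict_of_isoAt φ O.ι fun z => isoAt_of_bijective_app φ z.2 h
  exact (QCohLoc.isIso_restrict_iff O φ).1 inferInstance

theorem bijective_app_of_support {A B : X.Modules} (φ : A ⟶ B) (O : X.Opens)
    (hk : CohB1.support (kernel φ) ⊆ (O : Set X)ᶜ) (hc : CohB1.support (cokernel φ) ⊆ (O : Set X)ᶜ)
    {V : X.Opens} (hV : V ≤ O) : Function.Bijective (φ.app V) := by
  haveI : IsIso ((Scheme.Modules.restrictFunctor O.ι).map φ) := (QCohLoc.isIso_restrict_iff O φ).2 ⟨hk, hc⟩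
  exact bijective_app_of_isoAt φ V fun x hx => isoAt_of_isIso_restrict φ O.ι ⟨x, hV hx⟩

/-- The unit `F ⟶ j_*(F|_U)` is bijective on sections inside `U`. -/
theorem bijective_resPushUnit_app (U : X.Opens) (F : X.Modules) {V : X.Opens} (hV : V ≤ U) :
    Function.Bijective (((ZClos.resPushUnit U).app F).app V) := by
  rw [ZClos.resPushUnit_app_app]
  have e' : U.ι ''ᵁ U.ι ⁻¹ᵁ V = V := by rw [ZClos.ι_image_preimage]; exact inf_eq_right.2 hV
  haveI : IsIso (homOfLE (U.ι.image_preimage_le V)) := by
    rw [show homOfLE (U.ι.image_preimage_le V) = eqToHom e' from Subsingleton.elim _ _]; infer_instance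
  exact (ConcreteCategory.isIso_iff_bijective (F.presheaf.map (homOfLE (U.ι.image_preimage_le V)).op)).1
    inferInstance

end Groth.Agent.H17.GabRos
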