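import Groth.Agent.H17.GabRos.Algebra
import Groth.Agent.H17.GabRos.Support
import Groth.Agent.H8Props.FinLocFree.Sheaf
import Groth.Agent.H16Derived.KFlat.PerfAmp
import Groth.Agent.H10Coh.QCohOps
import Groth.Agent.H17.FPExt.Compact
import Mathlib

/-!
# The localizing subcategory generated by a finitely presented module
-/

set_option autoImplicit false
set_option linter.style.haveILetI false
set_option maxHeartbeats 1000000

universe u

open CategoryTheory CategoryTheory.Limits AlgebraicGeometry Opposite TopologicalSpace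

noncomputable section

namespace Groth.Agent.H17.GabRos

variable {X : Scheme.{u}}

set_option backward.isDefEq.respectTransparency false in
set_option backward.isDefEq.respectTransparency.types false in
theorem subsingleton_stalk_tilde_iff {R : CommRingCat.{u}} (N : ModuleCat.{u} R) (p : PrimeSpectrum R) :
    Subsingleton ((tilde N).presheaf.stalk p) ↔ ∀ x : N, ∃ c ∉ p.asIdeal, c • x = 0 := by
  let l := tilde.toStalk N p
  haveI h1 : IsLocalizedModule p.asIdeal.primeCompl l.hom := inferInstance
  constructor
  · intro hsub x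
    obtain ⟨c, hc⟩ := (IsLocalizedModule.eq_zero_iff p.asIdeal.primeCompl l.hom).1
      (@Subsingleton.elim _ hsub (l.hom x) 0)
    exact ⟨c.1, c.2, hc⟩
  · intro h
    refine subsingleton_of_forall_eq 0 fun z => ?_
    obtain ⟨⟨x, c⟩, rfl⟩ := IsLocalizedModule.mk'_surjective p.asIdeal.primeCompl l.hom z
    obtain ⟨d, hd, hdx⟩ := h x
    exact (IsLocalizedModule.mk'_eq_zero' l.hom c).2 ⟨⟨d, hd⟩, hdx⟩

theorem mem_support_tilde {R : CommRingCat.{u}} (N : ModuleCat.{u} R) (p : PrimeSpectrum R) :
    (p : Spec R) ∈ CohB1.support (tilde N) ↔ p ∈ Module.support R N := by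
  rw [show (p : Spec R) ∈ CohB1.support (tilde N) ↔ ¬ Subsingleton ((tilde N).presheaf.stalk p) from Iff.rfl,
    ← not_iff_not, not_not, Module.notMem_support_iff']
  exact subsingleton_stalk_tilde_iff N p

/-- A Serre class of quasi-coherent modules closed under sums. -/
structure IsLocClass (P : X.Modules → Prop) : Prop where
  serre : ∀ S : ShortComplex X.Modules, S.ShortExact → Coh.IsQCoh S.X₁ → Coh.IsQCoh S.X₂ →
    Coh.IsQCoh S.X₃ → (P S.X₂ ↔ P S.X₁ ∧ P S.X₃)
  sum : ∀ (ι : Type u) (M : ι → X.Modules), (∀ i, Coh.IsQCoh (M i)) → (∀ i, P (M i)) → P (∐ M)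

variable {P : X.Modules → Prop} (hP : IsLocClass P)

theorem shortExact_kernel {A B : X.Modules} (g : A ⟶ B) [Epi g] :
    (ShortComplex.mk (kernel.ι g) g (kernel.condition g)).ShortExact :=
  { exact := ShortComplex.exact_of_f_is_kernel _ (kernelIsKernel g) }

theorem shortExact_cokernel {A B : X.Modules} (f : A ⟶ B) [Mono f] :
    (ShortComplex.mk f (cokernel.π f) (cokernel.condition f)).ShortExact :=
  { exact := ShortComplex.exact_of_g_is_cokernel _ (cokernelIsCokernel f) }

include hP

theorem IsLocClass.of_epi {A B : X.Modules} (g : A ⟶ B) [Epi g] (hA : Coh.IsQCoh A) (hB : Coh.IsQCoh B) (h : P A) :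
    P B :=
  ((hP.serre _ (shortExact_kernel g) (@H10Coh.isQuasicoherent_kernel _ _ _ g hA hB) hA hB).1 h).2

theorem IsLocClass.iso {A B : X.Modules} (e : A ≅ B) (hA : Coh.IsQCoh A) (h : P A) : P B :=
  hP.of_epi e.hom hA (@H10Coh.isQuasicoherent_of_iso _ _ _ e hA) h

theorem IsLocClass.zero {A : X.Modules} (hA : IsZero A) {B : X.Modules} (hB : Coh.IsQCoh B) (h : P B) : P A :=
  haveI : Epi (0 : B ⟶ A) := ⟨fun _ _ _ => hA.eq_of_src _ _⟩
  hP.of_epi (0 : B ⟶ A) hB (H10Coh.isQuasicoherent_zero A hA) h

theorem IsLocClass.congr {T : Set X} (hT : ∀ M : X.Modules, Coh.IsQCoh M → CohB1.support M ⊆ T → P M)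
    {A B : X.Modules} (φ : A ⟶ B) (hA : Coh.IsQCoh A) (hB : Coh.IsQCoh B)
    (hk : CohB1.support (kernel φ) ⊆ T) (hc : CohB1.support (cokernel φ) ⊆ T) : P A ↔ P B := by
  haveI : A.IsQuasicoherent := hA
  haveI : B.IsQuasicoherent := hB
  haveI : (kernel φ).IsQuasicoherent := H10Coh.isQuasicoherent_kernel φ
  haveI : (cokernel φ).IsQuasicoherent := H10Coh.isQuasicoherent_cokernel φ
  haveI : (Abelian.coimage φ).IsQuasicoherent := H10Coh.isQuasicoherent_cokernel (kernel.ι φ)
  have e : cokernel (Abelian.factorThruCoimage φ) ≅ cokernel φ :=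
    (cokernelEpiComp (Abelian.coimage.π φ) (Abelian.factorThruCoimage φ)).symm ≪≫
      cokernelIsoOfEq (Abelian.coimage.fac φ)
  haveI : (cokernel (Abelian.factorThruCoimage φ)).IsQuasicoherent := H10Coh.isQuasicoherent_cokernel _
  have h₁ := hP.serre _ (shortExact_cokernel (kernel.ι φ)) inferInstance hA inferInstance
  have h₂ := hP.serre _ (shortExact_cokernel (Abelian.factorThruCoimage φ)) inferInstance hB inferInstance
  have hk' : P (kernel φ) := hT _ inferInstance hk
  have hc' : P (cokernel (Abelian.factorThruCoimage φ)) := hT _ inferInstance ((support_iso e).trans_subset hc)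
  exact ⟨fun h => h₂.2 ⟨(h₁.1 h).2, hc'⟩, fun h => h₁.2 ⟨hk', (h₂.1 h).1⟩⟩

omit hP in
/-- Direct image from the affine chart `fromSpec`, of the sheaf of a module. -/
abbrev pushTilde {R : CommRingCat.{u}} (j : Spec R ⟶ X) : ModuleCat.{u} R ⥤ X.Modules :=
  tilde.functor R ⋙ Scheme.Modules.pushforward j

omit hP in
theorem isQCoh_pushTilde {R : CommRingCat.{u}} (j : Spec R ⟶ X) [QuasiCompact j] [QuasiSeparated j] (N : ModuleCat.{u} R) :
    Coh.IsQCoh ((pushTilde j).obj N) := by
  haveI : (tilde N).IsQuasicoherent := inferInstance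
  exact H10Coh.isQuasicoherent_pushforward j (tilde N)

/-- The affine step. -/
theorem prop_pushTilde {R : CommRingCat.{u}} (j : Spec R ⟶ X) [IsOpenImmersion j] [QuasiCompact j]
    (S : X.Opens) (hS : ∀ M : X.Modules, Coh.IsQCoh M → CohB1.support M ⊆ ((S ⊔ j.opensRange : X.Opens) : Set X)ᶜ → P M)
    (G : ModuleCat.{u} R) [Module.FinitePresentation R G] (hG : P ((pushTilde j).obj G))
    (hGS : ∀ p : Spec R, (p : PrimeSpectrum R) ∈ Module.support R G ↔ j p ∉ S)
    (N : ModuleCat.{u} R) (hN : CohB1.support (tilde N) ⊆ (j ⁻¹ᵁ S : Set (Spec R))ᶜ) :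
    P ((pushTilde j).obj N) := by
  classical
  let Q := pushTilde j
  let adj := Scheme.Modules.restrictAdjunction j
  haveI hε : IsIso adj.counit := inferInstance
  have hq : ∀ N : ModuleCat.{u} R, Coh.IsQCoh (Q.obj N) := isQCoh_pushTilde j
  have hvan : ∀ N : ModuleCat.{u} R, Module.support R N ⊆ Module.support R G →
      CohB1.support (Q.obj N) ⊆ (S : Set X)ᶜ := fun N h => support_push_subset j _ S fun p hp hpS =>
    (hGS p).1 (h ((mem_support_tilde N p).1 hp)) hpS
  haveI : (Scheme.Modules.restrictFunctor j).IsLeftAdjoint := adj.isLeftAdjoint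
  -- modules vanishing on `S` and on the chart
  have hrest : ∀ M : X.Modules, Coh.IsQCoh M → CohB1.support M ⊆ (S : Set X)ᶜ →
      IsZero ((Scheme.Modules.restrictFunctor j).obj M) → P M := fun M hM h₁ h₂ => by
    refine hS M hM fun x hx hxS => ?_
    rcases hxS with hxS | ⟨z, rfl⟩
    · exact h₁ hx hxS
    · have := (support_eq_empty_of_isZero h₂).le
      rw [support_restrict] at this
      exact this hx
  refine GabRos.prop_of_support_subset G (fun N => P (Q.obj N)) ?_ ?_ hG N fun p hp =>
    (hGS p).2 fun h => hN ((mem_support_tilde N p).2 hp) h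
  · intro K M L f g hf hfg hg hM
    let f' : K ⟶ M := ModuleCat.ofHom f
    let g' : M ⟶ L := ModuleCat.ofHom g
    have hK : Module.support R K ⊆ Module.support R G := (Module.support_subset_of_injective f hf).trans hM
    have hL : Module.support R L ⊆ Module.support R G := (Module.support_subset_of_surjective g hg).trans hM
    haveI : Mono f' := (ModuleCat.mono_iff_injective _).2 hf
    let Sc : ShortComplex (ModuleCat.{u} R) := ShortComplex.mk f' g' (ModuleCat.hom_ext (LinearMap.ext fun x => hfg.apply_apply_eq_zero x))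
    have hSc : Sc.ShortExact :=
      { exact := (ShortComplex.ShortExact.moduleCat_exact_iff_function_exact Sc).2 hfg
        mono_f := inferInstance
        epi_g := (ModuleCat.epi_iff_surjective _).2 hg }
    haveI : PreservesFiniteLimits Q :=
      haveI : PreservesFiniteLimits (Scheme.Modules.pushforward j) :=
        haveI := adj.isRightAdjoint
        inferInstance
      comp_preservesFiniteLimits _ _
    haveI : Q.Additive := Functor.additive_of_preserves_binary_products _
    have htf : PreservesFiniteLimits Q ↔ ∀ (S : ShortComplex (ModuleCat.{u} R)), S.ShortExact →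
        (S.map Q).Exact ∧ Mono (Q.map S.f) := (Functor.preservesFiniteLimits_tfae Q).out 3 0
    obtain ⟨hex, hmono⟩ := htf.1 inferInstance Sc hSc
    haveI := hq K; haveI := hq M; haveI := hq L
    haveI : Mono (Sc.map Q).f := hmono
    let c := cokernel (Q.map g')
    have hc : P c := by
      refine hrest c (H10Coh.isQuasicoherent_cokernel _)
        ((support_sub_of_epi (cokernel.π (Q.map g'))).trans (hvan L hL)) ?_
      refine IsZero.of_iso ?_ (PreservesCokernel.iso (Scheme.Modules.restrictFunctor j) (Q.map g'))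
      suffices Epi ((Scheme.Modules.restrictFunctor j).map (Q.map g')) from isZero_cokernel_of_epi _
      let η : tilde.functor R ≅ Q ⋙ Scheme.Modules.restrictFunctor j :=
        (Functor.rightUnitor _).symm ≪≫ Functor.isoWhiskerLeft (tilde.functor R) (asIso adj.counit).symm ≪≫
          (Functor.associator _ _ _).symm
      haveI : (tilde.functor R).PreservesEpimorphisms :=
        Functor.preservesEpimorphisms_of_adjunction tilde.adjunction
      haveI : (Q ⋙ Scheme.Modules.restrictFunctor j).PreservesEpimorphisms :=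
        Functor.preservesEpimorphisms.of_iso η
      haveI : Epi g' := hSc.epi_g
      exact inferInstanceAs (Epi ((Q ⋙ Scheme.Modules.restrictFunctor j).map g'))
    haveI : (kernel (Q.map g')).IsQuasicoherent :=
      @H10Coh.isQuasicoherent_kernel _ _ _ (Q.map g') (hq M) (hq L)
    haveI : (Q.obj M).IsQuasicoherent := hq M
    haveI : (Q.obj L).IsQuasicoherent := hq L
    haveI : (Abelian.coimage (Q.map g')).IsQuasicoherent := H10Coh.isQuasicoherent_cokernel (kernel.ι (Q.map g'))
    have hk : kernel (Q.map g') ≅ Q.obj K :=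
      (kernelIsKernel (Q.map g')).conePointUniqueUpToIso hex.fIsKernel
    have h₁ := hP.serre _ (shortExact_cokernel (kernel.ι (Q.map g'))) inferInstance (hq M) inferInstance
    have e : cokernel (Abelian.factorThruCoimage (Q.map g')) ≅ c :=
      (cokernelEpiComp (Abelian.coimage.π (Q.map g')) (Abelian.factorThruCoimage (Q.map g'))).symm ≪≫
        cokernelIsoOfEq (Abelian.coimage.fac (Q.map g'))
    have h₂ := hP.serre _ (shortExact_cokernel (Abelian.factorThruCoimage (Q.map g'))) inferInstance (hq L)
      (H10Coh.isQuasicoherent_cokernel _)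
    have hc' : P (cokernel (Abelian.factorThruCoimage (Q.map g'))) :=
      hP.iso e.symm (H10Coh.isQuasicoherent_cokernel _) hc
    constructor
    · intro h
      exact ⟨hP.iso hk inferInstance (h₁.1 h).1, h₂.2 ⟨(h₁.1 h).2, hc'⟩⟩
    · intro h
      exact h₁.2 ⟨hP.iso hk.symm (hq K) h.1, (h₂.1 h.2).1⟩
  · intro ι M hM hPM
    let D : ModuleCat.{u} R := ModuleCat.of R (Π₀ i, M i)
    let e : (∐ M) ≅ D := ModuleCat.coprodIsoDirectSum M
    let q : ∀ i, M i ⟶ D := fun i => Sigma.ι M i ≫ e.hom
    let φ : (∐ fun i => Q.obj (M i)) ⟶ Q.obj D := Sigma.desc fun i => Q.map (q i)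
    haveI : (∐ fun i => Q.obj (M i)).IsQuasicoherent :=
      H10Coh.isQuasicoherent_colimit _ fun i => hq (M i.as)
    have hD : Module.support R D ⊆ Module.support R G := fun p hp => by
      by_contra hp'
      refine Module.notMem_support_iff'.2 (fun d => ?_) hp
      change ∃ r ∉ p.asIdeal, r • (show Π₀ i, M i from d) = 0
      have hi : ∀ i, ∃ r ∉ p.asIdeal, r • (show Π₀ i, M i from d) i = 0 := fun i =>
        Module.notMem_support_iff'.1 (fun h => hp' (hM i h)) _
      choose r hr hr' using hi
      refine ⟨∏ i ∈ (show Π₀ i, M i from d).support, r i, fun hmem => ?_, DFinsupp.ext fun i => ?_⟩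
      · obtain ⟨i, -, hi⟩ := Ideal.IsPrime.prod_mem_iff.1 hmem
        exact hr i hi
      · rw [DFinsupp.smul_apply]
        by_cases hi : i ∈ (show Π₀ i, M i from d).support
        · rw [← Finset.prod_erase_mul _ _ hi, mul_smul, hr', smul_zero]
          rfl
        · rw [DFinsupp.notMem_support_iff.1 hi, smul_zero]
          rfl
    have hiso : IsIso ((Scheme.Modules.restrictFunctor j).map φ) := by
      let G' := Scheme.Modules.pushforward j ⋙ Scheme.Modules.restrictFunctor j
      haveI : PreservesColimitsOfShape (Discrete ι) G' :=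
        preservesColimitsOfShape_of_natIso (asIso adj.counit).symm
      haveI : PreservesColimitsOfShape (Discrete ι) (tilde.functor R) :=
        haveI := (tilde.adjunction (R := R)).isLeftAdjoint
        inferInstance
      let c₀ : Cofan M := Cofan.mk D q
      have hc₀ : IsColimit c₀ := IsColimit.ofIsoColimit (coproductIsCoproduct M)
        (Cofan.ext e (fun i => rfl))
      haveI h3 : PreservesColimitsOfShape (Discrete ι) (Q ⋙ Scheme.Modules.restrictFunctor j) :=
        inferInstanceAs (PreservesColimitsOfShape (Discrete ι) (tilde.functor R ⋙ G'))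
      haveI : PreservesColimit (Discrete.functor M) (Q ⋙ Scheme.Modules.restrictFunctor j) :=
        h3.preservesColimit
      have h₁ := isColimitCofanMkObjOfIsColimit (Q ⋙ Scheme.Modules.restrictFunctor j) (f := M) q
        hc₀
      have h₂ := isColimitCofanMkObjOfIsColimit (Scheme.Modules.restrictFunctor j)
        (f := fun i => Q.obj (M i)) _ (coproductIsCoproduct fun i => Q.obj (M i))
      have he : (Scheme.Modules.restrictFunctor j).map φ = (h₂.coconePointUniqueUpToIso h₁).hom := by
        refine h₂.hom_ext fun i => ?_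
        rw [IsColimit.comp_coconePointUniqueUpToIso_hom]
        show (Scheme.Modules.restrictFunctor j).map (Sigma.ι (fun i => Q.obj (M i)) i.as) ≫ _ = _
        rw [← Functor.map_comp, Sigma.ι_desc]
        rfl
      rw [he]; infer_instance
    have hsum := hP.sum ι (fun i => Q.obj (M i)) (fun i => hq (M i)) hPM
    haveI := hq D
    have h1 : CohB1.support (∐ fun i => Q.obj (M i)) ⊆ (S : Set X)ᶜ :=
      support_sigma_subset _ fun i => hvan _ (hM i)
    refine (hP.congr (T := ((S ⊔ j.opensRange : X.Opens) : Set X)ᶜ) hS φ inferInstance (hq D) ?_ ?_).1 hsum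
    · intro x hx hxS
      rcases hxS with hxS | ⟨z, rfl⟩
      · exact h1 (support_sub_of_mono (kernel.ι φ) hx) hxS
      · have hz : IsZero ((Scheme.Modules.restrictFunctor j).obj (kernel φ)) :=
          (isZero_kernel_of_mono ((Scheme.Modules.restrictFunctor j).map φ)).of_iso
            (PreservesKernel.iso (Scheme.Modules.restrictFunctor j) φ)
        have := (support_eq_empty_of_isZero hz).le
        rw [support_restrict] at this
        exact this hx
    · intro x hx hxS
      rcases hxS with hxS | ⟨z, rfl⟩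
      · exact hvan D hD (support_sub_of_epi (cokernel.π φ) hx) hxS
      · have hz : IsZero ((Scheme.Modules.restrictFunctor j).obj (cokernel φ)) :=
          (isZero_cokernel_of_epi ((Scheme.Modules.restrictFunctor j).map φ)).of_iso
            (PreservesCokernel.iso (Scheme.Modules.restrictFunctor j) φ)
        have := (support_eq_empty_of_isZero hz).le
        rw [support_restrict] at this
        exact this hx

/-- The inductive step. -/
theorem prop_step {R : CommRingCat.{u}} (j : Spec R ⟶ X) [IsOpenImmersion j] [QuasiCompact j]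
    (F : X.Modules) [F.IsQuasicoherent] (hF : CohB1.IsFP F) (hPF : P F) (Wc V : X.Opens)
    (hWc : (Wc : Set X) = (CohB1.support F)ᶜ) (hV : IsCompact (j ⁻¹ᵁ V : Set (Spec R)))
    (hS : ∀ M : X.Modules, Coh.IsQCoh M →
      CohB1.support M ⊆ (((Wc ⊔ V) ⊔ j.opensRange : X.Opens) : Set X)ᶜ → P M)
    (M : X.Modules) [M.IsQuasicoherent] (hMS : CohB1.support M ⊆ ((Wc ⊔ V : X.Opens) : Set X)ᶜ) : P M := by
  classical
  let adj := Scheme.Modules.restrictAdjunction j
  haveI : (Scheme.Modules.restrictFunctor j).IsLeftAdjoint := adj.isLeftAdjoint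
  haveI : IsIso (Scheme.Modules.restrictAdjunction j).counit := inferInstance
  have hiso : ∀ A : X.Modules, IsIso ((Scheme.Modules.restrictFunctor j).map (adj.unit.app A)) :=
    fun A => inferInstance
  haveI hFres : ((Scheme.Modules.restrictFunctor j).obj F).IsQuasicoherent :=
    Scheme.Modules.isQuasicoherent_restrictFunctor j F
  have hFfp : CohB1.IsFP ((Scheme.Modules.restrictFunctor j).obj F) :=
    H16Derived.KFlat.Stalk.isFP_restrict j hF
  obtain ⟨F₀, hF₀, ⟨eF⟩⟩ : ∃ F₀ : ModuleCat.{u} R, Module.FinitePresentation R F₀ ∧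
      Nonempty (tilde F₀ ≅ (Scheme.Modules.restrictFunctor j).obj F) := by
    haveI := H8Props.FinLocFree.finitePresentation_sections ((Scheme.Modules.restrictFunctor j).obj F) hFfp
      (isAffineOpen_top (Spec R))
    exact ⟨_, H8Props.FinLocFree.finitePresentation_ΓSpec ((Scheme.Modules.restrictFunctor j).obj F),
      ⟨H10Coh.tildeIso ((Scheme.Modules.restrictFunctor j).obj F)⟩⟩
  obtain ⟨I, hI, hIV⟩ := (PrimeSpectrum.isCompact_isOpen_iff_ideal
    (s := (j ⁻¹ᵁ V : Set (Spec R)))).1 ⟨hV, (j ⁻¹ᵁ V).2⟩
  let G : ModuleCat.{u} R := ModuleCat.of R (F₀ ⧸ (I • ⊤ : Submodule R F₀))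
  haveI : Module.FinitePresentation R G := by
    refine Module.finitePresentation_of_surjective (I • ⊤ : Submodule R F₀).mkQ (Submodule.mkQ_surjective _) ?_
    rw [Submodule.ker_mkQ]
    exact Submodule.FG.smul hI Module.Finite.fg_top
  have hGS : ∀ p : PrimeSpectrum R, p ∈ Module.support R G ↔ j (p : Spec R) ∉ Wc ⊔ V := by
    intro p
    have h1 : p ∈ Module.support R F₀ ↔ j (p : Spec R) ∈ CohB1.support F := by
      refine (mem_support_tilde F₀ p).symm.trans ?_
      rw [show CohB1.support (tilde F₀) = j ⁻¹' CohB1.support F from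
        (support_iso eF).trans (support_restrict j F)]
      rfl
    have h2 : p ∈ PrimeSpectrum.zeroLocus (I : Set R) ↔ j (p : Spec R) ∉ V := by
      constructor
      · intro h hv
        exact (hIV ▸ (show (p : Spec R) ∈ (j ⁻¹ᵁ V : Set (Spec R)) from hv) :
          (p : Spec R) ∈ (PrimeSpectrum.zeroLocus (I : Set R))ᶜ) h
      · intro h
        by_contra hc
        exact h (show (p : Spec R) ∈ (j ⁻¹ᵁ V : Set (Spec R)) from hIV ▸ hc)
    have h3 := Set.ext_iff.1 (Module.support_quotient (M := F₀) I) p
    refine h3.trans ?_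
    have hW : j (p : Spec R) ∈ Wc ↔ ¬ j (p : Spec R) ∈ CohB1.support F := by
      rw [← SetLike.mem_coe, hWc]; rfl
    constructor
    · rintro ⟨a, b⟩ h
      rcases h with h | h
      · exact hW.1 h (h1.1 a)
      · exact h2.1 b h
    · exact fun h => ⟨h1.2 (not_not.1 fun hc => h (Or.inl (hW.2 hc))), h2.2 fun hc => h (Or.inr hc)⟩
  haveI : (tilde.functor R).PreservesEpimorphisms :=
    Functor.preservesEpimorphisms_of_adjunction tilde.adjunction
  let q₀ : F₀ ⟶ G := ModuleCat.ofHom (I • ⊤ : Submodule R F₀).mkQ
  haveI : Epi q₀ := (ModuleCat.epi_iff_surjective q₀).2 (I • ⊤ : Submodule R F₀).mkQ_surjective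
  haveI hq₀ : Epi ((tilde.functor R).map q₀) := (tilde.functor R).map_epi q₀
  let ψ : (Scheme.Modules.restrictFunctor j).obj F ⟶ tilde G := eF.inv ≫ (tilde.functor R).map q₀
  haveI hψ : Epi ψ := epi_comp' inferInstance hq₀
  let φ : F ⟶ (pushTilde j).obj G := adj.unit.app F ≫ (Scheme.Modules.pushforward j).map ψ
  have hqG := isQCoh_pushTilde j G
  haveI : ((pushTilde j).obj G).IsQuasicoherent := hqG
  haveI : Epi ((Scheme.Modules.restrictFunctor j).map φ) := by
    haveI : (Scheme.Modules.pushforward j ⋙ Scheme.Modules.restrictFunctor j).PreservesEpimorphisms :=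
      Functor.PreservesEpimorphisms.of_iso (asIso adj.counit).symm
    have h' : Epi ((Scheme.Modules.pushforward j ⋙ Scheme.Modules.restrictFunctor j).map ψ) := Functor.map_epi _ ψ
    rw [Functor.map_comp]
    exact epi_comp' ((hiso F).rec fun _ => inferInstance) h'
  have hsupG : CohB1.support ((pushTilde j).obj G) ⊆ ((Wc ⊔ V : X.Opens) : Set X)ᶜ :=
    support_push_subset j _ (Wc ⊔ V) fun p hp => (hGS p).1 ((mem_support_tilde G p).1 hp)
  have hG : P ((pushTilde j).obj G) := by
    haveI : (kernel φ).IsQuasicoherent := H10Coh.isQuasicoherent_kernel φ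
    haveI : (Abelian.coimage φ).IsQuasicoherent := H10Coh.isQuasicoherent_cokernel (kernel.ι φ)
    haveI : (cokernel φ).IsQuasicoherent := H10Coh.isQuasicoherent_cokernel φ
    have e : cokernel (Abelian.factorThruCoimage φ) ≅ cokernel φ :=
      (cokernelEpiComp (Abelian.coimage.π φ) (Abelian.factorThruCoimage φ)).symm ≪≫
        cokernelIsoOfEq (Abelian.coimage.fac φ)
    have hc : P (cokernel φ) := by
      refine hS _ inferInstance fun x hx hxS => ?_
      rcases hxS with hxS | ⟨z, rfl⟩
      · exact hsupG (support_sub_of_epi (cokernel.π φ) hx) hxS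
      · have hz : IsZero ((Scheme.Modules.restrictFunctor j).obj (cokernel φ)) :=
          (isZero_cokernel_of_epi ((Scheme.Modules.restrictFunctor j).map φ)).of_iso
            (PreservesCokernel.iso (Scheme.Modules.restrictFunctor j) φ)
        have := (support_eq_empty_of_isZero hz).le
        rw [support_restrict] at this
        exact this hx
    exact (hP.serre _ (shortExact_cokernel (Abelian.factorThruCoimage φ)) inferInstance hqG
      (H10Coh.isQuasicoherent_cokernel _)).2
      ⟨hP.of_epi (Abelian.coimage.π φ) ‹F.IsQuasicoherent› inferInstance hPF,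
        hP.iso e.symm inferInstance hc⟩
  haveI : ((Scheme.Modules.restrictFunctor j).obj M).IsQuasicoherent :=
    Scheme.Modules.isQuasicoherent_restrictFunctor j M
  obtain ⟨N, ⟨eN⟩⟩ : ∃ N : ModuleCat.{u} R, Nonempty (tilde N ≅ (Scheme.Modules.restrictFunctor j).obj M) :=
    ⟨_, ⟨H10Coh.tildeIso ((Scheme.Modules.restrictFunctor j).obj M)⟩⟩
  have hsN : CohB1.support (tilde N) = j ⁻¹' CohB1.support M :=
    (support_iso eN).trans (support_restrict j M)
  have hQN : P ((pushTilde j).obj N) :=
    prop_pushTilde hP j (Wc ⊔ V) hS G hG (fun p => hGS p) N (by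
      rw [hsN]
      exact fun p hp hpS => hMS hp hpS)
  let η : M ⟶ (pushTilde j).obj N := adj.unit.app M ≫ (Scheme.Modules.pushforward j).map eN.inv
  haveI : IsIso ((Scheme.Modules.restrictFunctor j).map η) := by
    rw [Functor.map_comp]
    exact IsIso.comp_isIso' (hiso M) (Functor.map_isIso _ ((Scheme.Modules.pushforward j).map eN.inv))
  refine (hP.congr (T := (((Wc ⊔ V) ⊔ j.opensRange : X.Opens) : Set X)ᶜ) hS η inferInstance
    (isQCoh_pushTilde j N) ?_ ?_).2 hQN
  · intro x hx hxS
    rcases hxS with hxS | ⟨z, rfl⟩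
    · exact hMS (support_sub_of_mono (kernel.ι η) hx) hxS
    · have hz : IsZero ((Scheme.Modules.restrictFunctor j).obj (kernel η)) :=
        (isZero_kernel_of_mono ((Scheme.Modules.restrictFunctor j).map η)).of_iso
          (PreservesKernel.iso (Scheme.Modules.restrictFunctor j) η)
      have := (support_eq_empty_of_isZero hz).le
      rw [support_restrict] at this
      exact this hx
  · intro x hx hxS
    rcases hxS with hxS | ⟨z, rfl⟩
    · refine support_push_subset j (tilde N) (Wc ⊔ V) (fun p hp hpS => ?_)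
        (support_sub_of_epi (cokernel.π η) hx) hxS
      rw [hsN] at hp
      exact hMS hp hpS
    · have hz : IsZero ((Scheme.Modules.restrictFunctor j).obj (cokernel η)) :=
        (isZero_cokernel_of_epi ((Scheme.Modules.restrictFunctor j).map η)).of_iso
          (PreservesCokernel.iso (Scheme.Modules.restrictFunctor j) η)
      have := (support_eq_empty_of_isZero hz).le
      rw [support_restrict] at this
      exact this hx

/-- **Serre closure**: everything supported in the support of a finitely presented module. -/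
theorem IsLocClass.prop_of_support_subset [CompactSpace X] [QuasiSeparatedSpace X] (F : X.Modules)
    (hFq : Coh.IsQCoh F) (hF : CohB1.IsFP F) (hPF : P F) (E : X.Modules) (hE : Coh.IsQCoh E)
    (hsupp : CohB1.support E ⊆ CohB1.support F) : P E := by
  classical
  haveI : F.IsQuasicoherent := hFq
  have hW : IsClosed (CohB1.support F) := H10Coh.isClosed_support F (H29Fitt.isFT_of_isFP F hF)
  let Wc : X.Opens := ⟨(CohB1.support F)ᶜ, hW.isOpen_compl⟩
  suffices key : ∀ (t : List X.affineOpens) (V : X.Opens), IsCompact (V : Set X) →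
      (∀ x ∈ CohB1.support F, x ∈ V ∨ ∃ U ∈ t, x ∈ U.1) → ∀ M : X.Modules, Coh.IsQCoh M →
      CohB1.support M ⊆ ((Wc ⊔ V : X.Opens) : Set X)ᶜ → P M by
    obtain ⟨t, ht⟩ := FPExt.exists_finite_cover (X := X)
    refine key t.toList ⊥ (by simp) (fun x _ => Or.inr ?_) E hE (fun x hx h => ?_)
    · obtain ⟨U, hU, hxU⟩ := ht x
      exact ⟨U, Finset.mem_toList.2 hU, hxU⟩
    · rcases h with h | h
      · exact h (hsupp hx)
      · exact h
  intro t
  induction t with
  | nil =>
    intro V _ hcov M hM hMS
    refine hP.zero (isZero_of_support_eq_empty (Set.eq_empty_iff_forall_notMem.2 fun x hx => ?_)) hFq hPF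
    by_cases hxW : x ∈ CohB1.support F
    · rcases hcov x hxW with h | ⟨U, hU, -⟩
      · exact hMS hx (Or.inr h)
      · simp at hU
    · exact hMS hx (Or.inl hxW)
  | cons U t ih =>
    intro V hV hcov M hM hMS
    haveI : M.IsQuasicoherent := hM
    haveI : IsOpenImmersion U.2.fromSpec := U.2.isOpenImmersion_fromSpec
    haveI : QuasiCompact U.2.fromSpec := by
      haveI : CompactSpace (Spec Γ(X, U.1)) := inferInstance
      infer_instance
    refine prop_step hP U.2.fromSpec F hF hPF Wc V rfl (QuasiCompact.isCompact_preimage _ V.2 hV)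
      (fun M' hM' h => ?_) M hMS
    refine ih (V ⊔ U.1) (by rw [Opens.coe_sup]; exact hV.union U.2.isCompact) (fun x hx => ?_) M' hM' ?_
    · rcases hcov x hx with h | ⟨U', hU', hx'⟩
      · exact Or.inl (Or.inl h)
      · rcases List.mem_cons.1 hU' with rfl | hU'
        · exact Or.inl (Or.inr hx')
        · exact Or.inr ⟨U', hU', hx'⟩
    · rw [U.2.opensRange_fromSpec, sup_assoc] at h
      exact h

end Groth.Agent.H17.GabRos
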