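import Groth.Agent.H17.GabRos.Categorical
import Mathlib

/-!
# The underlying space is determined by the category of quasi-coherent modules
-/

set_option autoImplicit false
set_option linter.style.haveILetI false
set_option maxHeartbeats 1000000

universe u

open CategoryTheory CategoryTheory.Limits AlgebraicGeometry Opposite TopologicalSpace
open QCohCat

noncomputable section

namespace Groth.Agent.H17.GabRos

section Sober

variable {α β : Type*} [TopologicalSpace α] [TopologicalSpace β]

theorem exists_point [QuasiSober α] (Φ : Opens α ≃o Opens β) (y : β) :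
    ∃ x : α, ∀ W : Opens α, y ∈ Φ W ↔ x ∈ W := by
  let c : Opens β := ⟨(closure {y})ᶜ, isClosed_closure.isOpen_compl⟩
  have hc : ∀ W : Opens α, y ∈ Φ W ↔ ¬ W ≤ Φ.symm c := by
    intro W
    rw [← Φ.le_iff_le, Φ.apply_symm_apply]
    constructor
    · intro hy h
      exact h hy (subset_closure rfl)
    · intro h
      by_contra hy
      refine h fun z hz hzc => hy ?_
      obtain ⟨_, hw, rfl⟩ := mem_closure_iff.1 hzc _ (Φ W).2 hz
      exact hw
  have hZ : IsIrreducible (Φ.symm c : Set α)ᶜ := by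
    refine ⟨?_, fun A B hA hB ⟨a, ha, haA⟩ ⟨b, hb, hbB⟩ => ?_⟩
    · rw [Set.nonempty_compl]
      intro h
      have h1 := (hc ⊤).1 (by rw [Φ.map_top]; trivial)
      exact h1 fun x _ => h.ge trivial
    · have h1 : y ∈ Φ ⟨A, hA⟩ := (hc _).2 fun h => ha (h haA)
      have h2 : y ∈ Φ ⟨B, hB⟩ := (hc _).2 fun h => hb (h hbB)
      have h3 : y ∈ Φ (⟨A, hA⟩ ⊓ ⟨B, hB⟩) := by rw [Φ.map_inf]; exact ⟨h1, h2⟩
      by_contra hne
      exact (hc _).1 h3 fun x hx => by_contra fun hx' => hne ⟨x, hx', hx.1, hx.2⟩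
  refine ⟨hZ.genericPoint, fun W => (hc W).trans ⟨fun h => ?_, fun h hle => ?_⟩⟩
  · obtain ⟨x, hxW, hx⟩ := Set.not_subset.1 h
    refine (hZ.isGenericPoint_genericPoint_closure.specializes ?_).mem_open W.2 hxW
    exact subset_closure hx
  · have := hZ.genericPoint_closure_eq
    have h' : hZ.genericPoint ∈ closure (Φ.symm c : Set α)ᶜ := by
      rw [← this]; exact subset_closure rfl
    rw [IsClosed.closure_eq (show IsClosed (Φ.symm c : Set α)ᶜ from (Φ.symm c).2.isClosed_compl)] at h'
    exact h' (hle h)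

/-- An isomorphism of lattices of opens of sober spaces comes from a homeomorphism. -/
theorem exists_homeomorph [QuasiSober α] [T0Space α] [QuasiSober β] [T0Space β] (Φ : Opens α ≃o Opens β) :
    ∃ h : β ≃ₜ α, ∀ (W : Opens α) (y : β), y ∈ Φ W ↔ h y ∈ W := by
  choose g hg using exists_point Φ
  choose g' hg' using exists_point Φ.symm
  have hcont : Continuous g := continuous_def.2 fun s hs => by
    have : g ⁻¹' s = Φ ⟨s, hs⟩ := Set.ext fun y => (hg y ⟨s, hs⟩).symm
    rw [this]; exact (Φ ⟨s, hs⟩).2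
  have hcont' : Continuous g' := continuous_def.2 fun s hs => by
    have : g' ⁻¹' s = Φ.symm ⟨s, hs⟩ := Set.ext fun x => (hg' x ⟨s, hs⟩).symm
    rw [this]; exact (Φ.symm ⟨s, hs⟩).2
  have h1 : ∀ y, g' (g y) = y := fun y => by
    refine (inseparable_iff_forall_isOpen.2 fun s hs => ?_).eq
    have := hg y (Φ.symm ⟨s, hs⟩)
    rw [Φ.apply_symm_apply] at this
    exact (hg' (g y) ⟨s, hs⟩).symm.trans this.symm
  have h2 : ∀ x, g (g' x) = x := fun x => by
    refine (inseparable_iff_forall_isOpen.2 fun s hs => ?_).eq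
    have := hg' x (Φ ⟨s, hs⟩)
    rw [Φ.symm_apply_apply] at this
    exact (hg (g' x) ⟨s, hs⟩).symm.trans this.symm
  exact ⟨{ toFun := g, invFun := g', left_inv := h1, right_inv := h2,
           continuous_toFun := hcont, continuous_invFun := hcont' }, fun W y => hg y W⟩

end Sober

variable {X Y : Scheme.{u}} [CompactSpace X] [QuasiSeparatedSpace X] [CompactSpace Y] [QuasiSeparatedSpace Y]

/-- A finitely presented object with support the complement of a compact open. -/
def nU (U : X.Opens) (hU : IsCompact (U : Set X)) : QCoh X :=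
  ⟨(exists_isFP_support U hU).choose, (exists_isFP_support U hU).choose_spec.1⟩

theorem isFP_nU (U : X.Opens) (hU : IsCompact (U : Set X)) : CohB1.IsFP (nU U hU).obj :=
  (exists_isFP_support U hU).choose_spec.2.1

theorem support_nU (U : X.Opens) (hU : IsCompact (U : Set X)) : CohB1.support (nU U hU).obj = (U : Set X)ᶜ :=
  (exists_isFP_support U hU).choose_spec.2.2

variable (e : QCoh X ≌ QCoh Y)

/-- The compact open corresponding to a compact open. -/
def phi (U : X.Opens) (hU : IsCompact (U : Set X)) : Y.Opens :=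
  ⟨(CohB1.support (e.functor.obj (nU U hU)).obj)ᶜ,
    (H10Coh.isClosed_support _ (H29Fitt.isFT_of_isFP _ (isFP_map e (isFP_nU U hU)))).isOpen_compl⟩

theorem compl_phi (U : X.Opens) (hU : IsCompact (U : Set X)) :
    (phi e U hU : Set Y)ᶜ = CohB1.support (e.functor.obj (nU U hU)).obj := compl_compl _

theorem isCompact_phi (U : X.Opens) (hU : IsCompact (U : Set X)) : IsCompact (phi e U hU : Set Y) :=
  isCompact_compl_support (isFP_map e (isFP_nU U hU))

/-- Vanishing on a compact open is preserved. -/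
theorem support_map_subset_compl (U : X.Opens) (hU : IsCompact (U : Set X)) (M : QCoh X) :
    CohB1.support (e.functor.obj M).obj ⊆ (phi e U hU : Set Y)ᶜ ↔ CohB1.support M.obj ⊆ (U : Set X)ᶜ := by
  rw [compl_phi, support_map_subset_iff e (isFP_nU U hU), support_nU]

theorem support_map_eq_compl (U : X.Opens) (hU : IsCompact (U : Set X)) {M : QCoh X} (hM : CohB1.IsFP M.obj)
    (h : CohB1.support M.obj = (U : Set X)ᶜ) :
    CohB1.support (e.functor.obj M).obj = (phi e U hU : Set Y)ᶜ := by
  refine Set.Subset.antisymm ((support_map_subset_compl e U hU M).2 h.le) ?_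
  rw [compl_phi, support_map_subset_iff e hM, support_nU, h]

theorem phi_le_phi_iff (U V : X.Opens) (hU : IsCompact (U : Set X)) (hV : IsCompact (V : Set X)) :
    phi e U hU ≤ phi e V hV ↔ U ≤ V := by
  rw [← SetLike.coe_subset_coe, ← Set.compl_subset_compl, compl_phi, compl_phi,
    support_map_subset_iff e (isFP_nU U hU), support_nU, support_nU, Set.compl_subset_compl,
    SetLike.coe_subset_coe]

theorem phi_symm (U : X.Opens) (hU : IsCompact (U : Set X)) :
    phi e.symm (phi e U hU) (isCompact_phi e U hU) = U := by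
  refine SetLike.coe_injective (compl_injective ?_)
  rw [← support_map_eq_compl e.symm (phi e U hU) (isCompact_phi e U hU) (isFP_map e (isFP_nU U hU))
    (compl_phi e U hU).symm, ← support_nU U hU]
  exact support_iso' (e.unitIso.symm.app (nU U hU))

/-- The correspondence on all opens. -/
def bigPhi (W : X.Opens) : Y.Opens :=
  ⨆ (U : X.Opens) (h : IsCompact (U : Set X) ∧ U ≤ W), phi e U h.1

theorem phi_le_bigPhi {U W : X.Opens} (hU : IsCompact (U : Set X)) (h : U ≤ W) : phi e U hU ≤ bigPhi e W :=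
  le_iSup₂ (f := fun (U : X.Opens) (h : IsCompact (U : Set X) ∧ U ≤ W) => phi e U h.1) U ⟨hU, h⟩

theorem bigPhi_mono {W W' : X.Opens} (h : W ≤ W') : bigPhi e W ≤ bigPhi e W' :=
  iSup₂_le fun _ hU => phi_le_bigPhi e hU.1 (hU.2.trans h)

theorem bigPhi_of_isCompact (U : X.Opens) (hU : IsCompact (U : Set X)) : bigPhi e U = phi e U hU :=
  le_antisymm (iSup₂_le fun _ hV => (phi_le_phi_iff e _ _ hV.1 hU).2 hV.2) (phi_le_bigPhi e hU le_rfl)

theorem exists_phi_ge {W : X.Opens} {K : Y.Opens} (hK : IsCompact (K : Set Y)) (h : K ≤ bigPhi e W) :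
    ∃ (U : X.Opens) (hU : IsCompact (U : Set X)), U ≤ W ∧ K ≤ phi e U hU := by
  classical
  obtain ⟨t, ht⟩ := hK.elim_finite_subcover
    (fun p : {U : X.Opens // IsCompact (U : Set X) ∧ U ≤ W} => (phi e p.1 p.2.1 : Set Y))
    (fun p => (phi e p.1 p.2.1).2) (fun y hy => by
      obtain ⟨U, h'⟩ := Opens.mem_iSup.1 (h hy)
      obtain ⟨hU, hy'⟩ := Opens.mem_iSup.1 h'
      exact Set.mem_iUnion.2 ⟨⟨U, hU⟩, hy'⟩)
  have hc : IsCompact ((t.sup Subtype.val : X.Opens) : Set X) := by
    clear ht
    induction t using Finset.induction with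
    | empty => simp
    | @insert a t _ ih => rw [Finset.sup_insert, Opens.coe_sup]; exact a.2.1.union ih
  refine ⟨t.sup Subtype.val, hc, Finset.sup_le fun p _ => p.2.2, fun y hy => ?_⟩
  obtain ⟨p, hp, hy'⟩ := Set.mem_iUnion₂.1 (ht hy)
  exact (phi_le_phi_iff e p.1 _ p.2.1 hc).2 (Finset.le_sup (f := Subtype.val) hp) hy'

theorem bigPhi_symm (W : X.Opens) : bigPhi e.symm (bigPhi e W) = W := by
  refine le_antisymm (iSup₂_le fun K hK => ?_) fun x hx => ?_
  · obtain ⟨U, hU, hUW, hKU⟩ := exists_phi_ge e hK.1 hK.2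
    refine le_trans ?_ hUW
    refine le_trans ((phi_le_phi_iff e.symm K (phi e U hU) hK.1 (isCompact_phi e U hU)).2 hKU) ?_
    rw [phi_symm]
  · obtain ⟨A, hA, hxA, hAW⟩ := exists_isAffineOpen_mem_and_subset (X := X) hx
    refine phi_le_bigPhi e.symm (isCompact_phi e A hA.isCompact) (phi_le_bigPhi e hA.isCompact hAW) ?_
    rw [phi_symm]
    exact hxA

/-- The isomorphism of lattices of opens. -/
def opensIso : X.Opens ≃o Y.Opens where
  toFun := bigPhi e
  invFun := bigPhi e.symm
  left_inv := bigPhi_symm e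
  right_inv W := bigPhi_symm e.symm W
  map_rel_iff' {W W'} := ⟨fun h => by
    have := bigPhi_mono e.symm (show bigPhi e W ≤ bigPhi e W' from h)
    rwa [bigPhi_symm, bigPhi_symm] at this, bigPhi_mono e⟩

/-- The homeomorphism attached to an equivalence of categories of quasi-coherent modules. -/
theorem exists_homeo : ∃ h : Y ≃ₜ X, ∀ (U : X.Opens), IsCompact (U : Set X) →
    ∀ M : QCoh X, (CohB1.support (e.functor.obj M).obj ⊆ (h ⁻¹' U : Set Y)ᶜ ↔
      CohB1.support M.obj ⊆ (U : Set X)ᶜ) := by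
  obtain ⟨h, hh⟩ := exists_homeomorph (opensIso e)
  refine ⟨h, fun U hU M => ?_⟩
  have : (h ⁻¹' U : Set Y) = (phi e U hU : Set Y) := by
    rw [← bigPhi_of_isCompact e U hU]
    exact Set.ext fun y => (hh U y).symm
  rw [this]
  exact support_map_subset_compl e U hU M

end Groth.Agent.H17.GabRos
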